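/-
Chevalley groups in odd characteristic: conjugation by torus and monomial elements, twisting an involution by the
SL₂ of a root that it negates.
-/
import Cfsg.Agent.Lib.G2OddInvol.Centralizer
import Cfsg.Agent.Lib.Chev.TorusCert
import Cfsg.Agent.Lib.Chev.BorelTits

set_option autoImplicit false
set_option linter.unusedSectionVars false

namespace Cfsg.Agent.OddInvol

open Cfsg.Lie Cfsg.Agent.Chev
open G2OddInvol (nSL coe_nSL conjSL coe_conjSL sl_hom_ext sl_commute nSL_sq)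
open scoped MatrixGroups

variable {F : Type*} [Field F] {D : ChevalleyDatum} (hD : Good D) {tabs simps : List ℕ}
  (hf : BNSetup.Facts D tabs simps)

/-- Conjugacy by an element of the group. -/
def Cj (a b : GL D.Idx F) : Prop := ∃ g ∈ D.group F, g * a * g⁻¹ = b

theorem Cj.rfl' (a : GL D.Idx F) : Cj a a := ⟨1, one_mem _, by simp⟩

theorem Cj.symm {a b : GL D.Idx F} (h : Cj a b) : Cj b a := by
  obtain ⟨g, hg, rfl⟩ := h
  exact ⟨g⁻¹, Subgroup.inv_mem _ hg, by group⟩

theorem Cj.trans {a b c : GL D.Idx F} (h : Cj a b) (h' : Cj b c) : Cj a c := by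
  obtain ⟨g, hg, rfl⟩ := h
  obtain ⟨g', hg', rfl⟩ := h'
  exact ⟨g' * g, Subgroup.mul_mem _ hg' hg, by group⟩

theorem Cj.invol {a b : GL D.Idx F} (h : Cj a b) (ha : a * a = 1) (ha1 : a ≠ 1) : b * b = 1 ∧ b ≠ 1 := by
  obtain ⟨g, -, rfl⟩ := h
  refine ⟨?_, fun e => ha1 ?_⟩
  · rw [show g * a * g⁻¹ * (g * a * g⁻¹) = g * (a * a) * g⁻¹ by group, ha, mul_one, mul_inv_cancel]
  · have := congrArg (fun x => g⁻¹ * x * g) e
    simpa [mul_assoc] using this

section basics
include hD hf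

theorem mem_group_of_mem_N {m : GL D.Idx F} (hm : m ∈ (BNSetup.data hD F).N) : m ∈ D.group F :=
  (BNSetup.monomial_le_group hD hf) ((BNSetup.data_N hD hf).le hm)

omit hf in
theorem xe_eq (r : ℕ) (u : F) : (BNSetup.xe hD r u : GL D.Idx F) = xg D F r u :=
  Units.ext ((BNSetup.coe_xe hD r u).trans (hD.coe_xg r u).symm)

omit hf in
theorem ne_eq_nG (r : ℕ) (u : F) : (BNSetup.ne' hD r u : GL D.Idx F) = nG D F r u :=
  Units.ext ((BNSetup.coe_ne' hD r u).trans (hD.coe_nG r u).symm)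

omit hf in
theorem he_eq_hG (r : ℕ) (u : F) : (BNSetup.he hD r u : GL D.Idx F) = hG D F r u :=
  Units.ext ((BNSetup.coe_he hD r u).trans (hD.coe_hG r u).symm)

omit hf in
theorem hG_single (i : Fin D.rank) (t : Fˣ) :
    hG D F (D.simple i.val) (t : F) = BNSetup.torusHom F D (Pi.mulSingle i t) := by
  rw [BNSetup.torusHom_single hD, he_eq_hG hD]

omit hf in
theorem torus_mem_H (c : Fin D.rank → Fˣ) : BNSetup.torusHom F D c ∈ (BNSetup.data hD F).H :=
  (BNSetup.diagonal_eq_range hD).ge ⟨c, rfl⟩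

omit hf in
theorem exists_torus {h : GL D.Idx F} (hh : h ∈ (BNSetup.data hD F).H) : ∃ c, h = BNSetup.torusHom F D c := by
  obtain ⟨c, e⟩ := (BNSetup.diagonal_eq_range hD).le hh
  exact ⟨c, e.symm⟩

omit hD hf in
theorem char_single (i : Fin D.rank) (x : Fˣ) (s : ℕ) :
    BNSetup.torusChar D (Pi.mulSingle i x) s = x ^ D.cartan i.val s := by
  rw [BNSetup.torusChar, Finset.prod_eq_single i]
  · simp
  · intro j _ hj; simp [Pi.mulSingle_eq_of_ne hj]
  · simp

omit hf in
/-- The torus acts on the root subgroups by its characters. -/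
theorem torus_conj (c : Fin D.rank → Fˣ) {s : ℕ} (hs : s < D.nroots) (u : F) :
    BNSetup.torusHom F D c * xg D F s u * (BNSetup.torusHom F D c)⁻¹ =
      xg D F s ((BNSetup.torusChar D c s : F) * u) := by
  revert u
  rw [← Finset.univ_prod_mulSingle c]
  refine Finset.prod_induction _ (fun x => ∀ u, BNSetup.torusHom F D x * xg D F s u *
    (BNSetup.torusHom F D x)⁻¹ = xg D F s ((BNSetup.torusChar D x s : F) * u)) ?_ ?_ fun i _ => ?_
  · intro a b ha hb u
    rw [map_mul, BNSetup.torusChar_mul, Units.val_mul, mul_assoc (BNSetup.torusChar D a s : F), ← ha, ← hb]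
    group
  · intro u
    simp [BNSetup.torusChar_one]
  · intro u
    show BNSetup.torusHom F D (Pi.mulSingle i (c i)) * _ * _ = _
    rw [← hG_single hD, mul_inv_eq_iff_eq_mul, hD.hG_mul_xg i.2 hs (c i).ne_zero]
    rw [char_single, Units.val_zpow_eq_zpow_val]

omit hf in
theorem char_refl (c : Fin D.rank → Fˣ) {i : ℕ} (hi : i < D.rank) {s : ℕ} (hs : s < D.nroots) :
    BNSetup.torusChar D c (D.reflectRoot i s) =
      BNSetup.torusChar D c s * (BNSetup.torusChar D c (D.simple i)) ^ (-D.cartan i s) := by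
  simp only [BNSetup.torusChar, ← Finset.prod_zpow, ← Finset.prod_mul_distrib, ← zpow_mul, ← zpow_add]
  refine Finset.prod_congr rfl fun j _ => ?_
  rw [hD.cartan_reflectRoot hi j.2 hs]
  ring_nf

theorem char_neg (c : Fin D.rank → Fˣ) {s : ℕ} (hs : s < D.nroots) :
    BNSetup.torusChar D c (D.neg s) = (BNSetup.torusChar D c s)⁻¹ := by
  simp only [BNSetup.torusChar, ← Finset.prod_inv_distrib]
  exact Finset.prod_congr rfl fun j _ => by rw [BNSetup.cartan_neg hD j.2 hs, zpow_neg]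

omit hf in
/-- A fundamental `n` moves the torus by one coordinate. -/
theorem nn_conj_torus (i : Fin D.rank) (c : Fin D.rank → Fˣ) :
    (BNSetup.data hD F).nn i * BNSetup.torusHom F D c * ((BNSetup.data hD F).nn i)⁻¹ =
      BNSetup.torusHom F D (c * Pi.mulSingle i (BNSetup.torusChar D c (D.simple i.val))⁻¹) := by
  rw [mul_inv_eq_iff_eq_mul]
  refine Units.ext ?_
  show (BNSetup.ne' hD (D.simple i.val) (1 : F) * BNSetup.torusHom F D c : GL D.Idx F).1 = _
  rw [Units.val_mul, Units.val_mul, BNSetup.coe_ne', BNSetup.coe_torusHom, BNSetup.coe_torusHom]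
  obtain ⟨cc, hV⟩ := hD
  rw [hV.nMat_mul_hdiag i.2]
  congr 1
  · refine hdiag_congr D fun s hs => ?_
    have h := char_refl (hD := ⟨cc, hV⟩) c i.2 hs
    rw [hV.w_eq_reflectRoot i.2 hs] at h
    rw [h, BNSetup.torusChar_mul]
    congr 2
    rw [char_single, zpow_neg, inv_zpow]
  · exact (BNSetup.coe_ne' ⟨cc, hV⟩ _ _).symm

theorem nn_eq (i : Fin D.rank) : (BNSetup.data hD F).nn i = nG D F (D.simple i.val) 1 :=
  (isChevData hD hf).nn_eq i

theorem nw_conj_x (l : List (Fin D.rank)) (s : Fin D.nroots) :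
    ∃ e : F, e * e = 1 ∧ ∀ u : F, (BNSetup.data hD F).nw l * xg D F s.val u * ((BNSetup.data hD F).nw l)⁻¹ =
      xg D F ((BNSetup.data hD F).wl l s).val (e * u) := by
  induction l with
  | nil => exact ⟨1, one_mul 1, fun u => by simp⟩
  | cons j l ih =>
    obtain ⟨e, he, hx⟩ := ih
    obtain ⟨η, hη, hηx⟩ := hD.exists_sign_xg (F := F) j.2
    set r := (BNSetup.data hD F).wl l s
    refine ⟨η r.val * e, by rw [mul_mul_mul_comm, (hη _ r.2).1, he, one_mul], fun u => ?_⟩
    rw [RootBN.Data.nw_cons, RootBN.Data.wl_cons, Equiv.Perm.mul_apply, BNSetup.data_refl, nn_eq hD hf,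
      show nG D F (D.simple j.val) 1 * (BNSetup.data hD F).nw l * xg D F s.val u *
          (nG D F (D.simple j.val) 1 * (BNSetup.data hD F).nw l)⁻¹ =
        nG D F (D.simple j.val) 1 * ((BNSetup.data hD F).nw l * xg D F s.val u * ((BNSetup.data hD F).nw l)⁻¹) *
          (nG D F (D.simple j.val) 1)⁻¹ by group,
      hx, hηx _ r.2, mul_inv_cancel_right, mul_assoc]

/-- An element of `N` multiplies the coordinate by a character of the image and a sign. -/
theorem exists_coef {n : GL D.Idx F} {σ : Equiv.Perm (Fin D.nroots)} (hn : n ∈ (BNSetup.data hD F).N)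
    (hσ : (BNSetup.data hD F).Acts n σ) : ∃ c : Fin D.rank → Fˣ, ∀ s : Fin D.nroots, ∃ e : F, e * e = 1 ∧
      ∀ u : F, n * xg D F s.val u * n⁻¹ = xg D F (σ s).val ((BNSetup.torusChar D c (σ s).val : F) * e * u) := by
  have ax := BNSetup.axioms (F := F) hD hf
  obtain ⟨h, hh, l, rfl⟩ := RootBN.Data.exists_word ax hn
  obtain ⟨c, rfl⟩ := exists_torus hD hh
  have e := RootBN.Data.acts_unique ax hσ (RootBN.Data.acts_mul_nw ax hh l)
  subst e
  refine ⟨c, fun s => ?_⟩
  obtain ⟨e, he, hx⟩ := nw_conj_x (F := F) hD hf l s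
  refine ⟨e, he, fun u => ?_⟩
  rw [show BNSetup.torusHom F D c * (BNSetup.data hD F).nw l * xg D F s.val u *
      (BNSetup.torusHom F D c * (BNSetup.data hD F).nw l)⁻¹ = BNSetup.torusHom F D c *
        ((BNSetup.data hD F).nw l * xg D F s.val u * ((BNSetup.data hD F).nw l)⁻¹) *
          (BNSetup.torusHom F D c)⁻¹ by group, hx, torus_conj hD c ((BNSetup.data hD F).wl l s).2, mul_assoc _ e u]

omit hf in
theorem exists_phi {r : ℕ} (hr : r < D.nroots) : ∃ φ : SL(2, F) →* GL D.Idx F,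
    (∀ t, φ (upperSL t) = xg D F r t) ∧ (∀ t, φ (lowerSL t) = xg D F (D.neg r) t) ∧
      (∀ a, φ (nSL a) = nG D F r a) ∧ ∀ g, φ g ∈ D.group F := by
  obtain ⟨φ, h1, h2⟩ := hD.exists_sl2_hom (F := F) hr
  refine ⟨φ, h1, h2, fun a => by rw [nSL, map_mul, map_mul, h1, h2, nG_eq], fun g => ?_⟩
  refine (show φ.range ≤ D.group F from ?_) ⟨g, rfl⟩
  rw [hD.range_sl2_hom h1 h2]
  refine sup_le ?_ ?_ <;>
  · intro x hx
    obtain ⟨t, rfl⟩ := hD.mem_rootSubgroup_iff.1 hx
    exact hD.xg_mem_group _ _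

omit hf in
theorem nG_simple_neg (i : Fin D.rank) (v : F) :
    nG D F (D.simple i.val) 1 * xg D F (D.simple i.val) v * (nG D F (D.simple i.val) 1)⁻¹ =
      xg D F (D.neg (D.simple i.val)) (-v) := by
  obtain ⟨φ, h1, h2, h3, -⟩ := exists_phi (F := F) hD (hD.simple_lt i.2)
  have e : (nSL 1 : SL(2, F)) * upperSL v = lowerSL (-v) * nSL 1 := Subtype.ext (by
    simp only [Matrix.SpecialLinearGroup.coe_mul, coe_nSL (one_ne_zero (α := F)), coe_upperSL, coe_lowerSL]
    ext a b; fin_cases a <;> fin_cases b <;> simp [Matrix.mul_apply, Fin.sum_univ_two])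
  rw [mul_inv_eq_iff_eq_mul, ← h1, ← h2, ← h3, ← map_mul, ← map_mul, e]

end basics

/-! ### Twisting -/

omit hD hf in
theorem flip_back {n : GL D.Idx F} (hn : n * n = 1) {r s : ℕ} {k : F} (hk : k ≠ 0)
    (h : ∀ u, n * xg D F r u * n⁻¹ = xg D F s (k * u)) (u : F) :
    n * xg D F s u * n⁻¹ = xg D F r (k⁻¹ * u) := by
  have h' := h (k⁻¹ * u)
  rw [← mul_assoc, mul_inv_cancel₀ hk, one_mul] at h'
  rw [← h', inv_eq_of_mul_eq_one_right hn,
    show n * (n * xg D F r (k⁻¹ * u) * n) * n = n * n * xg D F r (k⁻¹ * u) * (n * n) by group,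
    hn, one_mul, mul_one]

omit hD hf in
/-- Twisting an involution by the SL₂ of a root it negates. -/
theorem cj_twist {n : GL D.Idx F} (hn : n * n = 1) {r : ℕ} {φ : SL(2, F) →* GL D.Idx F}
    (hu : ∀ t, φ (upperSL t) = xg D F r t) (hl : ∀ t, φ (lowerSL t) = xg D F (D.neg r) t)
    (hmem : ∀ g, φ g ∈ D.group F) {k : F} (hk : k ≠ 0)
    (h : ∀ u, n * xg D F r u * n⁻¹ = xg D F (D.neg r) (k * u)) {g R : SL(2, F)}
    (hgR : !![0, 1; k, 0] * g.1 * !![0, k⁻¹; 1, 0] * R.1 = g.1) : Cj n (n * φ R) := by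
  have hd : (!![0, 1; k, 0] : Matrix (Fin 2) (Fin 2) F) * !![0, k⁻¹; 1, 0] = 1 := by
    ext i j; fin_cases i <;> fin_cases j <;> simp [Matrix.mul_apply, Fin.sum_univ_two, hk]
  have hd' : (!![0, k⁻¹; 1, 0] : Matrix (Fin 2) (Fin 2) F) * !![0, 1; k, 0] = 1 := by
    ext i j; fin_cases i <;> fin_cases j <;> simp [Matrix.mul_apply, Fin.sum_univ_two, hk]
  let θ := conjSL _ _ hd hd'
  have hθu : ∀ t, θ (upperSL t) = lowerSL (k * t) := fun t => Subtype.ext (by
    rw [coe_conjSL, coe_lowerSL]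
    ext i j; fin_cases i <;> fin_cases j <;> simp [coe_upperSL, Matrix.mul_apply, Fin.sum_univ_two, hk])
  have hθl : ∀ t, θ (lowerSL t) = upperSL (k⁻¹ * t) := fun t => Subtype.ext (by
    rw [coe_conjSL, coe_upperSL]
    ext i j; fin_cases i <;> fin_cases j <;> simp [coe_lowerSL, Matrix.mul_apply, Fin.sum_univ_two, hk, mul_comm])
  have hθ := sl_hom_ext (f := (MulAut.conj n).toMonoidHom.comp φ) (g := φ.comp θ)
    (fun t => by simp [hθu, hu, hl, h]) (fun t => by simp [hθl, hu, hl, flip_back hn hk h])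
  have hg : θ g * R = g := Subtype.ext (by rw [Matrix.SpecialLinearGroup.coe_mul, coe_conjSL]; exact hgR)
  refine ⟨(φ g)⁻¹, Subgroup.inv_mem _ (hmem g), ?_⟩
  have e : n * φ (θ g) = φ g * n := by
    have h' : n * φ g * n⁻¹ = φ (θ g) := hθ g
    rw [← h', inv_eq_of_mul_eq_one_right hn, ← mul_assoc, ← mul_assoc, hn, one_mul]
  have e2 : n * φ g = φ g * (n * φ R) := by
    calc n * φ g = n * φ (θ g * R) := by rw [hg]
      _ = φ g * (n * φ R) := by rw [map_mul, ← mul_assoc, e, mul_assoc]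
  rw [inv_inv, mul_assoc, e2, inv_mul_cancel_left]

include hD hf

/-- A square coefficient on a fundamental root removes its reflection. -/
theorem cj_square (h2 : (2 : F) ≠ 0) {n : GL D.Idx F} {σ : Equiv.Perm (Fin D.nroots)}
    (hN : n ∈ (BNSetup.data hD F).N) (hact : (BNSetup.data hD F).Acts n σ) (hsq : n * n = 1)
    (i : Fin D.rank) {c : F} (hc : c ≠ 0)
    (h : ∀ u, n * xg D F (D.simple i.val) u * n⁻¹ = xg D F (D.neg (D.simple i.val)) (c * c * u)) :
    ∃ n' ∈ (BNSetup.data hD F).N, Cj n n' ∧ (BNSetup.data hD F).Acts n' (σ * (BNSetup.data hD F).refl i) := by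
  have ax := BNSetup.axioms (F := F) hD hf
  obtain ⟨φ, h1, hl, h3, hmem⟩ := exists_phi (F := F) hD (hD.simple_lt i.2)
  have hk : c * c ≠ 0 := mul_ne_zero hc hc
  let g : SL(2, F) := ⟨!![1, -(2 * c)⁻¹; c, 2⁻¹], by
    rw [Matrix.det_fin_two_of]
    field_simp
    ring⟩
  have hR : Cj n (n * φ (nSL (-c⁻¹))) := cj_twist hsq h1 hl hmem hk h (g := g) (by
    rw [coe_nSL (neg_ne_zero.2 (inv_ne_zero hc))]
    ext a b; fin_cases a <;> fin_cases b <;> simp [g, Matrix.mul_apply, Fin.sum_univ_two] <;> field_simp)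
  have hne' : (-c⁻¹ : F) ≠ 0 := neg_ne_zero.2 (inv_ne_zero hc)
  have hH : hG D F (D.simple i.val) (-c⁻¹) ∈ (BNSetup.data hD F).H :=
    Subgroup.subset_closure ⟨_, _, hD.simple_lt i.2, hne', hD.coe_hG _ _⟩
  have hnG : nG D F (D.simple i.val) (-c⁻¹) = hG D F (D.simple i.val) (-c⁻¹) * (BNSetup.data hD F).nn i := by
    rw [hG_eq, mul_assoc, nn_eq hD hf, ← hD.nG_inv (hD.simple_lt i.2) one_ne_zero, inv_mul_cancel, mul_one]
  rw [h3, hnG] at hR
  refine ⟨_, (BNSetup.data hD F).N.mul_mem hN ((BNSetup.data hD F).N.mul_mem (RootBN.Data.H_le_N hH)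
    (RootBN.Data.nn_mem_N i)), hR, ?_⟩
  simpa using hact.mul ((RootBN.Data.acts_H ax hH).mul (RootBN.Data.acts_nn ax i))

/-- Twisting by the central involution of the SL₂ of a fundamental root. -/
theorem cj_center [Fintype F] (h2 : (2 : F) ≠ 0) {n : GL D.Idx F} (hsq : n * n = 1) (i : Fin D.rank) {k : F}
    (hk : k ≠ 0) (h : ∀ u, n * xg D F (D.simple i.val) u * n⁻¹ = xg D F (D.neg (D.simple i.val)) (k * u)) :
    Cj n (n * BNSetup.torusHom F D (Pi.mulSingle i (-1))) := by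
  obtain ⟨φ, p1, pl, p3, pmem⟩ := exists_phi (F := F) hD (hD.simple_lt i.2)
  have hchar : ringChar F ≠ 2 := fun hc => h2 (by
    have := ringChar.Nat.cast_ringChar (R := F)
    rw [hc] at this
    exact_mod_cast this)
  obtain ⟨x, y, hxy⟩ : ∃ x y : F, x * x - k * (y * y) = -1 := by
    obtain ⟨x, y, hxy⟩ := FiniteField.exists_root_sum_quadratic (R := F)
      (f := Polynomial.X ^ 2 + Polynomial.C 1) (g := Polynomial.C (-k) * Polynomial.X ^ 2)
      (Polynomial.degree_X_pow_add_C (by norm_num) 1)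
      (Polynomial.degree_C_mul_X_pow 2 (neg_ne_zero.2 hk))
      (FiniteField.odd_card_of_char_ne_two hchar)
    simp at hxy
    exact ⟨x, y, by linear_combination hxy⟩
  let g : SL(2, F) := ⟨!![x, y; -(k * y), -x], by rw [Matrix.det_fin_two_of]; linear_combination -hxy⟩
  have hm1 : (-1 : F) ≠ 0 := neg_ne_zero.2 one_ne_zero
  have hR : Cj n (n * φ (nSL (-1) * nSL (-1))) := cj_twist hsq p1 pl pmem hk h (g := g) (by
    rw [Matrix.SpecialLinearGroup.coe_mul, coe_nSL hm1]
    ext a b; fin_cases a <;> fin_cases b <;>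
      simp [g, Matrix.mul_apply, Fin.sum_univ_two, inv_neg] <;> field_simp)
  rw [map_mul, p3, ← hG_eq] at hR
  rwa [← hG_single hD, Units.val_neg, Units.val_one]

end Cfsg.Agent.OddInvol
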