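/-
An involution of a simply connected Chevalley group in odd characteristic is conjugate into the diagonal subgroup:
descent on the Weyl group image of an involution of `N`.
-/
import Cfsg.Agent.Lib.OddInvol.Conj
import Cfsg.Agent.Lib.Chev.Sylow

set_option autoImplicit false
set_option linter.unusedSectionVars false
set_option synthInstance.maxSize 4000

namespace Cfsg.Agent.OddInvol

open Cfsg.Lie Cfsg.Agent.Chev
open G2OddInvol (isSquare_sign isSquare_mul_of_not)
open scoped MatrixGroups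

/-- Two fundamental roots have an odd Cartan integer or are strongly orthogonal. -/
def SimpleOrth (D : ChevalleyDatum) : Prop :=
  ∀ i < D.rank, ∀ j < D.rank, i ≠ j → (D.cartan i (D.simple j) % 2 ≠ 0 ∨ D.cartan j (D.simple i) % 2 ≠ 0) ∨
    (D.cartan i (D.simple j) = 0 ∧ D.reflectRoot i (D.simple j) = D.simple j ∧
      ∀ r ∈ [D.simple i, D.neg (D.simple i)], ∀ s ∈ [D.simple j, D.neg (D.simple j)],
        s ≠ r ∧ s ≠ D.neg r ∧ D.commTerms r s = [])

instance decidableSimpleOrth (D : ChevalleyDatum) : Decidable (SimpleOrth D) :=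
  inferInstanceAs (Decidable (∀ _, _))

theorem not_isSquare_zpow_odd {F : Type*} [Field F] {x : F} (hx : ¬ IsSquare x) {m : ℤ} (hm : m % 2 ≠ 0) :
    ¬ IsSquare (x ^ m) := by
  rintro ⟨r, hr⟩
  obtain ⟨k, rfl⟩ : ∃ k, m = 2 * k + 1 := ⟨m / 2, by omega⟩
  have hx0 : x ≠ 0 := fun h => hx (h ▸ IsSquare.zero)
  refine hx ⟨r / x ^ k, ?_⟩
  rw [zpow_add₀ hx0, zpow_one, two_mul, zpow_add₀ hx0] at hr
  field_simp
  linear_combination hr

variable {F : Type*} [Field F] {D : ChevalleyDatum} (hD : Good D) {tabs simps : List ℕ}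
  (hf : BNSetup.Facts D tabs simps)
include hD hf

theorem torusHom_injective [Fintype F] {d : ℕ} (C : BNSetup.KerCert D d 0) (hC : C.Valid) :
    Function.Injective (BNSetup.torusHom F D) := by
  rw [← MonoidHom.ker_eq_bot_iff]
  refine Subgroup.eq_bot_of_card_eq _ ?_
  rw [BNSetup.card_ker_torusHom hD C hC, pow_zero]

theorem refl_comm_of_neg {l : List (Fin D.rank)} {j : Fin D.rank}
    (h : (BNSetup.data hD F).wl l ((BNSetup.data hD F).simp j) =
      (BNSetup.data hD F).opp ((BNSetup.data hD F).simp j)) :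
    (BNSetup.data hD F).wl l * (BNSetup.data hD F).refl j =
      (BNSetup.data hD F).refl j * (BNSetup.data hD F).wl l := by
  have ax := BNSetup.axioms (F := F) hD hf
  obtain ⟨h₀, hh₀, e₀⟩ := ax.conj_nroot j ((BNSetup.data hD F).simp j)
  rw [ax.refl_simp, ax.nroot_simp, mul_inv_cancel_right] at e₀
  obtain ⟨h', hh', e⟩ := RootBN.Data.conj_nroot_nw ax l ((BNSetup.data hD F).simp j)
  rw [h, ax.nroot_simp, show (BNSetup.data hD F).nroot ((BNSetup.data hD F).opp ((BNSetup.data hD F).simp j)) =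
    h₀⁻¹ * (BNSetup.data hD F).nn j by rw [eq_inv_mul_iff_mul_eq]; exact e₀.symm, ← mul_assoc] at e
  have hA := ((RootBN.Data.acts_nw ax l).mul (RootBN.Data.acts_nn ax j)).mul (RootBN.Data.acts_nw ax l).inv
  rw [e] at hA
  have hB := (RootBN.Data.acts_H ax ((BNSetup.data hD F).H.mul_mem hh' ((BNSetup.data hD F).H.inv_mem hh₀))).mul
    (RootBN.Data.acts_nn ax j)
  rw [one_mul] at hB
  exact mul_inv_eq_iff_eq_mul.1 (RootBN.Data.acts_unique ax hA hB)

section orth

variable {L : List (Fin D.rank)}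

/-- The nodes of a list are strongly orthogonal. -/
def OrthList (L : List (Fin D.rank)) : Prop :=
  ∀ i ∈ L, ∀ j ∈ L, i ≠ j → D.cartan i.val (D.simple j.val) = 0 ∧ D.reflectRoot i.val (D.simple j.val) = D.simple j.val ∧
    ∀ r ∈ [D.simple i.val, D.neg (D.simple i.val)], ∀ s ∈ [D.simple j.val, D.neg (D.simple j.val)],
      s ≠ r ∧ s ≠ D.neg r ∧ D.commTerms r s = []

omit hD hf in
theorem OrthList.tail {a : Fin D.rank} (h : OrthList (a :: L)) : OrthList L :=
  fun i hi j hj => h i (List.mem_cons_of_mem _ hi) j (List.mem_cons_of_mem _ hj)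

theorem wl_orth_simp : ∀ {L : List (Fin D.rank)}, L.Nodup → OrthList L → ∀ i,
    (i ∉ L → (∀ j ∈ L, OrthList [j, i]) → (BNSetup.data hD F).wl L ((BNSetup.data hD F).simp i) =
      (BNSetup.data hD F).simp i) ∧
    (i ∈ L → (BNSetup.data hD F).wl L ((BNSetup.data hD F).simp i) =
      (BNSetup.data hD F).opp ((BNSetup.data hD F).simp i)) := by
  have ax := BNSetup.axioms (F := F) hD hf
  intro L
  induction L with
  | nil => intro _ _ i; exact ⟨fun _ _ => rfl, fun h => absurd h List.not_mem_nil⟩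
  | cons a L ih =>
    intro hnd ho i
    obtain ⟨ha, hnd'⟩ := List.nodup_cons.1 hnd
    have hfix : ∀ k, k ≠ a → OrthList [a, k] → (BNSetup.data hD F).refl a ((BNSetup.data hD F).simp k) =
        (BNSetup.data hD F).simp k := fun k hk hak => Fin.ext
      (hak a (by simp) k (by simp) (Ne.symm hk)).2.1
    refine ⟨fun hi hio => ?_, fun hi => ?_⟩
    · rw [List.mem_cons, not_or] at hi
      rw [RootBN.Data.wl_cons, Equiv.Perm.mul_apply,
        (ih hnd' ho.tail i).1 hi.2 (fun j hj => hio j (List.mem_cons_of_mem _ hj)),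
        hfix i hi.1 (hio a List.mem_cons_self)]
    · rw [RootBN.Data.wl_cons, Equiv.Perm.mul_apply]
      rcases List.mem_cons.1 hi with rfl | hi'
      · rw [(ih hnd' ho.tail i).1 ha (fun j hj => fun x hx y hy => ho x (by simp at hx; rcases hx with rfl | rfl <;>
          simp [hj]) y (by simp at hy; rcases hy with rfl | rfl <;> simp [hj])), ax.refl_simp]
      · have hne : i ≠ a := fun h => ha (h ▸ hi')
        rw [(ih hnd' ho.tail i).2 hi', ax.refl_opp, hfix i hne (fun x hx y hy => ho x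
          (by simp at hx; rcases hx with rfl | rfl <;> simp [hi']) y
          (by simp at hy; rcases hy with rfl | rfl <;> simp [hi']))]

theorem wl_orth_pos (hL : OrthList L) : ∀ M, M ⊆ L → ∀ s, (BNSetup.data hD F).Pos s →
    (∀ j ∈ L, s ≠ (BNSetup.data hD F).simp j) →
    (BNSetup.data hD F).Pos ((BNSetup.data hD F).wl M s) ∧
      ∀ j ∈ L, (BNSetup.data hD F).wl M s ≠ (BNSetup.data hD F).simp j := by
  have ax := BNSetup.axioms (F := F) hD hf
  intro M
  induction M with
  | nil => intro _ s hs hne; exact ⟨hs, hne⟩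
  | cons a M ih =>
    intro hM s hs hne
    obtain ⟨h1, h2⟩ := ih (fun x hx => hM (List.mem_cons_of_mem _ hx)) s hs hne
    have haL := hM List.mem_cons_self
    rw [RootBN.Data.wl_cons, Equiv.Perm.mul_apply]
    refine ⟨ax.refl_pos a _ h1 (h2 a haL), fun j hj e => ?_⟩
    have e' := congrArg ((BNSetup.data hD F).refl a) e
    rw [ax.refl_refl] at e'
    by_cases hja : j = a
    · subst hja
      rw [ax.refl_simp] at e'
      exact RootBN.Data.not_pos_opp_simp ax j (e' ▸ h1)
    · exact h2 j hj (e'.trans (Fin.ext (hL a haL j hj (Ne.symm hja)).2.1))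

theorem nn_fix {i j : Fin D.rank} (h : ∀ r ∈ [D.simple i.val, D.neg (D.simple i.val)],
    ∀ s ∈ [D.simple j.val, D.neg (D.simple j.val)], s ≠ r ∧ s ≠ D.neg r ∧ D.commTerms r s = [])
    {s : ℕ} (hs : s ∈ [D.simple j.val, D.neg (D.simple j.val)]) (v : F) :
    (BNSetup.data hD F).nn i * xg D F s v = xg D F s v * (BNSetup.data hD F).nn i := by
  obtain ⟨φ, h1, h2, h3, -⟩ := exists_phi (F := F) hD (hD.simple_lt i.2)
  have hs' : s < D.nroots := by
    simp only [List.mem_cons, List.not_mem_nil, or_false] at hs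
    rcases hs with rfl | rfl
    exacts [hD.simple_lt j.2, hD.neg_lt (hD.simple_lt j.2)]
  have key : ∀ r ∈ [D.simple i.val, D.neg (D.simple i.val)], r < D.nroots → ∀ t : F,
      xg D F s v * xg D F r t = xg D F r t * xg D F s v := by
    intro r hr hrl t
    obtain ⟨a, b, c⟩ := h r hr s hs
    rw [hD.xg_comm hrl hs' a b, ChevalleyDatum.commWord, c]
    simp [wordG]
  rw [nn_eq hD hf, ← h3]
  exact (G2OddInvol.sl_commute (f := φ) (y := xg D F s v)
    (fun t => by rw [h1]; exact key _ (by simp) (hD.simple_lt i.2) t)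
    (fun t => by rw [h2]; exact key _ (by simp) (hD.neg_lt (hD.simple_lt i.2)) t) _).symm

theorem nn_comm {i j : Fin D.rank} (h : ∀ r ∈ [D.simple i.val, D.neg (D.simple i.val)],
    ∀ s ∈ [D.simple j.val, D.neg (D.simple j.val)], s ≠ r ∧ s ≠ D.neg r ∧ D.commTerms r s = []) :
    (BNSetup.data hD F).nn i * (BNSetup.data hD F).nn j = (BNSetup.data hD F).nn j * (BNSetup.data hD F).nn i := by
  rw [nn_eq hD hf j, nG_eq]
  have h1 := nn_fix (F := F) hD hf h (s := D.simple j.val) (by simp) 1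
  have h2 := nn_fix (F := F) hD hf h (s := D.neg (D.simple j.val)) (by simp) (-(1 : F)⁻¹)
  rw [← mul_assoc, ← mul_assoc, h1, mul_assoc (xg D F _ _), h2, ← mul_assoc, mul_assoc _ _ (xg D F _ _), h1,
    ← mul_assoc]

theorem nw_orth_comm {i : Fin D.rank} : ∀ M : List (Fin D.rank), (∀ j ∈ M, OrthList [i, j] ∧ i ≠ j) →
    (BNSetup.data hD F).nn i * (BNSetup.data hD F).nw M = (BNSetup.data hD F).nw M * (BNSetup.data hD F).nn i := by
  intro M
  induction M with
  | nil => intro _; simp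
  | cons a M ih =>
    intro h
    obtain ⟨h1, hne⟩ := h a List.mem_cons_self
    rw [RootBN.Data.nw_cons, ← mul_assoc, nn_comm hD hf (h1 i (by simp) a (by simp) hne).2.2, mul_assoc,
      ih (fun j hj => h j (List.mem_cons_of_mem _ hj)), mul_assoc]

omit hD hf in
theorem OrthList.pair (h : OrthList L) {i j : Fin D.rank} (hi : i ∈ L) (hj : j ∈ L) : OrthList [i, j] :=
  fun x hx y hy => h x (by simp at hx; rcases hx with rfl | rfl <;> assumption) y
    (by simp at hy; rcases hy with rfl | rfl <;> assumption)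

theorem nw_orth_torus : ∀ {L : List (Fin D.rank)}, L.Nodup → OrthList L → ∀ c : Fin D.rank → Fˣ,
    ∃ d, (BNSetup.data hD F).nw L * BNSetup.torusHom F D c * ((BNSetup.data hD F).nw L)⁻¹ =
        BNSetup.torusHom F D d ∧
      ∀ j, (j ∈ L → d j = c j * (BNSetup.torusChar D c (D.simple j.val))⁻¹) ∧ (j ∉ L → d j = c j) := by
  intro L
  induction L with
  | nil => intro _ _ c; exact ⟨c, by simp, fun j => ⟨fun h => absurd h List.not_mem_nil, fun _ => rfl⟩⟩
  | cons a L ih =>
    intro hnd ho c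
    obtain ⟨ha, hnd⟩ := List.nodup_cons.1 hnd
    obtain ⟨d, hd, hd'⟩ := ih hnd ho.tail c
    refine ⟨d * Pi.mulSingle a (BNSetup.torusChar D d (D.simple a.val))⁻¹, ?_, fun j => ?_⟩
    · rw [← nn_conj_torus hD, ← hd, RootBN.Data.nw_cons]
      group
    have hchar : BNSetup.torusChar D d (D.simple a.val) = BNSetup.torusChar D c (D.simple a.val) := by
      refine Finset.prod_congr rfl fun k _ => ?_
      by_cases hk : k ∈ L
      · rw [(ho k (List.mem_cons_of_mem _ hk) a List.mem_cons_self (fun h => ha (by subst h; exact hk))).1, zpow_zero, zpow_zero]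
      · rw [(hd' k).2 hk]
    rw [List.mem_cons, not_or, Pi.mul_apply]
    refine ⟨fun hj => ?_, fun hj => ?_⟩
    · rcases hj with rfl | hj
      · rw [Pi.mulSingle_eq_same, hchar, (hd' j).2 ha]
      · rw [Pi.mulSingle_eq_of_ne (fun h => ha (by subst h; exact hj)), mul_one, (hd' j).1 hj]
    · rw [Pi.mulSingle_eq_of_ne hj.1, mul_one, (hd' j).2 hj.2]

theorem nw_orth_sq : ∀ {L : List (Fin D.rank)}, L.Nodup → OrthList L →
    ∃ d, (BNSetup.data hD F).nw L * (BNSetup.data hD F).nw L = BNSetup.torusHom F D d ∧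
      ∀ j, (j ∈ L → d j = -1) ∧ (j ∉ L → d j = 1) := by
  intro L
  induction L with
  | nil => intro _ _; exact ⟨1, by simp, fun j => ⟨fun h => absurd h List.not_mem_nil, fun _ => rfl⟩⟩
  | cons a L ih =>
    intro hnd ho
    obtain ⟨ha, hnd'⟩ := List.nodup_cons.1 hnd
    obtain ⟨d, hd, hd'⟩ := ih hnd' ho.tail
    have hcomm := nw_orth_comm (F := F) hD hf (i := a) L fun j hj =>
      ⟨ho.pair List.mem_cons_self (List.mem_cons_of_mem _ hj), fun h => ha (by subst h; exact hj)⟩
    have hsq : (BNSetup.data hD F).nn a * (BNSetup.data hD F).nn a =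
        BNSetup.torusHom F D (Pi.mulSingle a (-1)) := by
      rw [nn_eq hD hf, hD.nG_simple_sq a.2, ← hG_single hD, Units.val_neg, Units.val_one]
    refine ⟨Pi.mulSingle a (-1) * d, ?_, fun j => ⟨fun hj => ?_, fun hj => ?_⟩⟩
    · rw [map_mul, ← hsq, ← hd, RootBN.Data.nw_cons]
      calc (BNSetup.data hD F).nn a * (BNSetup.data hD F).nw L *
            ((BNSetup.data hD F).nn a * (BNSetup.data hD F).nw L)
          = (BNSetup.data hD F).nn a * ((BNSetup.data hD F).nw L * (BNSetup.data hD F).nn a) *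
              (BNSetup.data hD F).nw L := by group
        _ = _ := by rw [← hcomm]; group
    · rcases List.mem_cons.1 hj with rfl | hj'
      · rw [Pi.mul_apply, Pi.mulSingle_eq_same, (hd' j).2 ha, mul_one]
      · rw [Pi.mul_apply, Pi.mulSingle_eq_of_ne (fun h : j = a => ha (h ▸ hj')), one_mul, (hd' j).1 hj']
    · rw [List.mem_cons, not_or] at hj
      rw [Pi.mul_apply, Pi.mulSingle_eq_of_ne hj.1, one_mul, (hd' j).2 hj.2]

theorem nw_orth_conj_x : ∀ {L : List (Fin D.rank)}, L.Nodup → OrthList L → ∀ j : Fin D.rank,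
    (j ∈ L → ∀ v : F, (BNSetup.data hD F).nw L * xg D F (D.simple j.val) v * ((BNSetup.data hD F).nw L)⁻¹ =
      xg D F (D.neg (D.simple j.val)) (-v)) ∧
    (j ∉ L → (∀ a ∈ L, OrthList [a, j]) → ∀ v : F,
      (BNSetup.data hD F).nw L * xg D F (D.simple j.val) v * ((BNSetup.data hD F).nw L)⁻¹ =
        xg D F (D.simple j.val) v) := by
  intro L
  induction L with
  | nil => intro _ _ j; exact ⟨fun h => absurd h List.not_mem_nil, fun _ _ v => by simp⟩
  | cons a L ih =>
    intro hnd ho j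
    obtain ⟨ha, hnd'⟩ := List.nodup_cons.1 hnd
    have hcalc : ∀ v : F, (BNSetup.data hD F).nw (a :: L) * xg D F (D.simple j.val) v *
        ((BNSetup.data hD F).nw (a :: L))⁻¹ = (BNSetup.data hD F).nn a *
          ((BNSetup.data hD F).nw L * xg D F (D.simple j.val) v * ((BNSetup.data hD F).nw L)⁻¹) *
            ((BNSetup.data hD F).nn a)⁻¹ := fun v => by rw [RootBN.Data.nw_cons]; group
    refine ⟨fun hj v => ?_, fun hj hoj v => ?_⟩
    · rw [hcalc]
      rcases List.mem_cons.1 hj with rfl | hj'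
      · rw [(ih hnd' ho.tail j).2 ha (fun x hx => ho.pair (List.mem_cons_of_mem _ hx) hj), nn_eq hD hf,
          nG_simple_neg hD]
      · rw [(ih hnd' ho.tail j).1 hj',
          nn_fix hD hf (ho a List.mem_cons_self j hj (fun h => ha (by subst h; exact hj'))).2.2 (by simp) (-v),
          mul_inv_cancel_right]
    · rw [hcalc]
      rw [List.mem_cons, not_or] at hj
      rw [(ih hnd' ho.tail j).2 hj.2 (fun x hx => hoj x (List.mem_cons_of_mem _ hx)),
        nn_fix hD hf (hoj a List.mem_cons_self a (by simp) j (by simp) (Ne.symm hj.1)).2.2 (by simp) v,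
        mul_inv_cancel_right]

end orth

/-! ### The descent -/

set_option maxHeartbeats 1600000 in
theorem descent [Fintype F] (h2 : (2 : F) ≠ 0) {d : ℕ} (C : BNSetup.KerCert D d 0) (hC : C.Valid)
    (horth : SimpleOrth D) : ∀ k, ∀ n ∈ (BNSetup.data hD F).N, ∀ σ, (BNSetup.data hD F).Acts n σ →
      n * n = 1 → n ≠ 1 → (BNSetup.data hD F).inv σ = k → ∃ h ∈ (BNSetup.data hD F).H, Cj n h := by
  classical
  have ax := BNSetup.axioms (F := F) hD hf
  intro k
  induction k using Nat.strong_induction_on with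
  | _ k ih =>
  intro n hn σ hσ hsq hne hk
  obtain ⟨l, hl⟩ := RootBN.Data.exists_acts ax hn
  obtain rfl := RootBN.Data.acts_unique ax hσ hl
  clear hl
  have hinv : (BNSetup.data hD F).wl l * (BNSetup.data hD F).wl l = 1 :=
    RootBN.Data.acts_unique ax (hσ.mul hσ) (hsq.symm ▸ RootBN.Data.acts_one)
  by_cases h1 : (BNSetup.data hD F).wl l = 1
  · exact ⟨n, RootBN.Data.mem_H_of_pos_preserving ax hn hσ (fun r hr => by rw [h1]; exact hr), Cj.rfl' n⟩
  by_cases hA : ∃ i, ¬ (BNSetup.data hD F).Pos ((BNSetup.data hD F).wl l ((BNSetup.data hD F).simp i)) ∧ (BNSetup.data hD F).wl l ((BNSetup.data hD F).simp i) ≠ (BNSetup.data hD F).opp ((BNSetup.data hD F).simp i)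
  · obtain ⟨i, hi, hi'⟩ := hA
    have hcj : Cj n ((BNSetup.data hD F).nn i * n * ((BNSetup.data hD F).nn i)⁻¹) :=
      ⟨(BNSetup.data hD F).nn i, mem_group_of_mem_N hD hf (RootBN.Data.nn_mem_N i), rfl⟩
    obtain ⟨s1, s2⟩ := hcj.invol hsq hne
    have hact := ((RootBN.Data.acts_nn ax i).mul hσ).mul (RootBN.Data.acts_nn ax i).inv
    rw [RootBN.Data.refl_inv ax, mul_assoc ((BNSetup.data hD F).refl i)] at hact
    have e1 := RootBN.Data.inv_mul_refl_neg ax (σ := (BNSetup.data hD F).wl l) (RootBN.Data.wl_opp ax l) hi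
    have hw : (BNSetup.data hD F).wl l * (BNSetup.data hD F).refl i = (BNSetup.data hD F).wl (l ++ [i]) := by simp [RootBN.Data.wl_append]
    have hpos : ¬ (BNSetup.data hD F).Pos (((BNSetup.data hD F).wl (l ++ [i]))⁻¹ ((BNSetup.data hD F).simp i)) := by
      rw [← hw, mul_inv_rev, RootBN.Data.refl_inv ax, inv_eq_of_mul_eq_one_right hinv, Equiv.Perm.mul_apply]
      have hp : (BNSetup.data hD F).Pos ((BNSetup.data hD F).opp ((BNSetup.data hD F).wl l ((BNSetup.data hD F).simp i))) := (ax.pos_opp _).2 hi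
      have hne2 : (BNSetup.data hD F).opp ((BNSetup.data hD F).wl l ((BNSetup.data hD F).simp i)) ≠ (BNSetup.data hD F).simp i := fun e => hi' (by
        rw [← ax.opp_opp ((BNSetup.data hD F).wl l ((BNSetup.data hD F).simp i)), e])
      have := ax.refl_pos i _ hp hne2
      rwa [ax.refl_opp, ax.pos_opp] at this
    have e2 := RootBN.Data.inv_refl_mul_neg ax (i := i) (l ++ [i]) hpos
    rw [← hw] at e2
    obtain ⟨h, hh, hc⟩ := ih _ (by omega) _ ((BNSetup.data hD F).N.mul_mem ((BNSetup.data hD F).N.mul_mem (RootBN.Data.nn_mem_N i) hn)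
      ((BNSetup.data hD F).N.inv_mem (RootBN.Data.nn_mem_N i))) _ hact s1 s2 rfl
    exact ⟨h, hh, hcj.trans hc⟩
  push Not at hA
  -- a square coefficient finishes
  have fin : ∀ n2 ∈ (BNSetup.data hD F).N, (BNSetup.data hD F).Acts n2 ((BNSetup.data hD F).wl l) → Cj n n2 → ∀ (j : Fin D.rank) (x : F),
      (BNSetup.data hD F).wl l ((BNSetup.data hD F).simp j) = (BNSetup.data hD F).opp ((BNSetup.data hD F).simp j) → x ≠ 0 → IsSquare x →
      (∀ u, n2 * xg D F (D.simple j.val) u * n2⁻¹ = xg D F (D.neg (D.simple j.val)) (x * u)) →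
      ∃ h ∈ (BNSetup.data hD F).H, Cj n h := by
    intro n2 hn2 hact2 hcj j x hj hx0 hxs hx
    obtain ⟨c, rfl⟩ := hxs
    obtain ⟨s1, s2⟩ := hcj.invol hsq hne
    obtain ⟨n', hn', hc', hact'⟩ := cj_square hD hf h2 hn2 hact2 s1 j (left_ne_zero_of_mul hx0) hx
    have e1 := RootBN.Data.inv_mul_refl_neg ax (σ := (BNSetup.data hD F).wl l) (RootBN.Data.wl_opp ax l)
      (i := j) (by rw [hj]; exact RootBN.Data.not_pos_opp_simp ax j)
    obtain ⟨t1, t2⟩ := hc'.invol s1 s2
    obtain ⟨h, hh, hc⟩ := ih _ (by omega) n' hn' _ hact' t1 t2 rfl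
    exact ⟨h, hh, (hcj.trans hc').trans hc⟩
  obtain ⟨c, hc⟩ := exists_coef hD hf hn hσ
  have hcj : ∀ j, (BNSetup.data hD F).wl l ((BNSetup.data hD F).simp j) = (BNSetup.data hD F).opp ((BNSetup.data hD F).simp j) → ∃ x : F, x ≠ 0 ∧
      (∀ u, n * xg D F (D.simple j.val) u * n⁻¹ = xg D F (D.neg (D.simple j.val)) (x * u)) ∧
      ∃ e : F, e * e = 1 ∧ x = (BNSetup.torusChar D c (D.simple j.val) : F)⁻¹ * e := by
    intro j hj
    obtain ⟨e, he, hx⟩ := hc ((BNSetup.data hD F).simp j)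
    refine ⟨(BNSetup.torusChar D c (D.simple j.val) : F)⁻¹ * e,
      mul_ne_zero (inv_ne_zero (Units.ne_zero _)) (left_ne_zero_of_mul_eq_one he), fun u => ?_, e, he, rfl⟩
    have := hx u
    rw [hj] at this
    rw [show (((BNSetup.data hD F).opp ((BNSetup.data hD F).simp j)).val) = D.neg (D.simple j.val) from rfl, char_neg hD hf c (hD.simple_lt j.2),
      Units.val_inv_eq_inv_val] at this
    exact this
  by_cases hpair : ∃ i j, (BNSetup.data hD F).wl l ((BNSetup.data hD F).simp i) = (BNSetup.data hD F).opp ((BNSetup.data hD F).simp i) ∧ (BNSetup.data hD F).wl l ((BNSetup.data hD F).simp j) = (BNSetup.data hD F).opp ((BNSetup.data hD F).simp j) ∧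
      D.cartan i.val (D.simple j.val) % 2 ≠ 0
  · obtain ⟨i, j, hi, hj, hodd⟩ := hpair
    obtain ⟨xi, hxi0, hxi, ei, hei, exi⟩ := hcj i hi
    obtain ⟨xj, hxj0, hxj, ej, hej, exj⟩ := hcj j hj
    by_cases hsi : IsSquare xi
    · exact fin n hn hσ (Cj.rfl' n) i xi hi hxi0 hsi hxi
    by_cases hsj : IsSquare xj
    · exact fin n hn hσ (Cj.rfl' n) j xj hj hxj0 hsj hxj
    have hne_ij : i ≠ j := by
      rintro rfl
      rw [hD.cartan_simple i.2] at hodd
      omega
    by_cases hm1 : IsSquare (-1 : F)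
    · set r : Fin D.nroots := (BNSetup.data hD F).refl i ((BNSetup.data hD F).simp j) with hr
      have hσr : (BNSetup.data hD F).wl l r = (BNSetup.data hD F).opp r := by
        have := congrArg (fun p : Equiv.Perm (Fin D.nroots) => p ((BNSetup.data hD F).simp j)) (refl_comm_of_neg hD hf hi)
        simp only [Equiv.Perm.mul_apply] at this
        rw [hr, this, hj, ax.refl_opp]
      obtain ⟨e, he, hx⟩ := hc r
      set x := (BNSetup.torusChar D c r.val : F)⁻¹ * e with hxdef
      have hx0 : x ≠ 0 := mul_ne_zero (inv_ne_zero (Units.ne_zero _)) (left_ne_zero_of_mul_eq_one he)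
      have hxr : ∀ u, n * xg D F r.val u * n⁻¹ = xg D F (D.neg r.val) (x * u) := by
        intro u
        have := hx u
        rw [hσr, show ((BNSetup.data hD F).opp r).val = D.neg r.val from rfl, char_neg hD hf c r.2, Units.val_inv_eq_inv_val]
          at this
        exact this
      have hxs : IsSquare x := by
        have hi' : ¬ IsSquare (BNSetup.torusChar D c (D.simple i.val) : F) := fun h =>
          hsi (exi ▸ h.inv.mul (isSquare_sign hei hm1))
        have hj' : ¬ IsSquare (BNSetup.torusChar D c (D.simple j.val) : F) := fun h =>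
          hsj (exj ▸ h.inv.mul (isSquare_sign hej hm1))
        refine (IsSquare.inv ?_).mul (isSquare_sign he hm1)
        rw [show r.val = D.reflectRoot i.val (D.simple j.val) from rfl, char_refl hD c i.2 (hD.simple_lt j.2),
          Units.val_mul, Units.val_zpow_eq_zpow_val]
        exact isSquare_mul_of_not hj' (not_isSquare_zpow_odd hi' (by omega))
      obtain ⟨η, hη, hηx⟩ := hD.exists_sign_xg (F := F) i.2
      have hrj : D.reflectRoot i.val r.val = D.simple j.val := hD.reflectRoot_reflectRoot i.2 (hD.simple_lt j.2)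
      have hact := ((RootBN.Data.acts_nn ax i).mul hσ).mul (RootBN.Data.acts_nn ax i).inv
      rw [RootBN.Data.refl_inv ax, ← refl_comm_of_neg hD hf hi, mul_assoc ((BNSetup.data hD F).wl l),
        show (BNSetup.data hD F).refl i * (BNSetup.data hD F).refl i = 1 from Equiv.ext fun s => ax.refl_refl i s, mul_one] at hact
      refine fin _ ((BNSetup.data hD F).N.mul_mem ((BNSetup.data hD F).N.mul_mem (RootBN.Data.nn_mem_N i) hn) ((BNSetup.data hD F).N.inv_mem (RootBN.Data.nn_mem_N i)))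
        hact ⟨(BNSetup.data hD F).nn i, mem_group_of_mem_N hD hf (RootBN.Data.nn_mem_N i), rfl⟩ j x hj hx0 hxs fun u => ?_
      rw [nn_eq hD hf]
      have a1 : xg D F (D.simple j.val) u =
          nG D F (D.simple i.val) 1 * xg D F r.val (η r.val * u) * (nG D F (D.simple i.val) 1)⁻¹ := by
        rw [hηx _ r.2, hrj, mul_inv_cancel_right, ← mul_assoc, (hη _ r.2).1, one_mul]
      rw [a1]
      calc _ = nG D F (D.simple i.val) 1 * (n * xg D F r.val (η r.val * u) * n⁻¹) *
            (nG D F (D.simple i.val) 1)⁻¹ := by group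
        _ = _ := by
          rw [hxr, hηx _ (hD.neg_lt r.2), hD.reflectRoot_neg i.2 r.2, hrj, mul_inv_cancel_right, (hη _ r.2).2]
          congr 1
          linear_combination (x * u) * (hη _ r.2).1
    · have hcc := cj_center hD hf h2 hsq i hxi0 hxi
      have hmem := torus_mem_H (F := F) hD (Pi.mulSingle i (-1))
      have hact := hσ.mul (RootBN.Data.acts_H ax hmem)
      rw [mul_one] at hact
      refine fin _ ((BNSetup.data hD F).N.mul_mem hn (RootBN.Data.H_le_N hmem)) hact hcc j (-xj) hj (neg_ne_zero.2 hxj0) ?_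
        fun u => ?_
      · rw [← neg_one_mul]; exact isSquare_mul_of_not hm1 hsj
      · have hs : ((BNSetup.torusChar D (Pi.mulSingle i (-1 : Fˣ)) (D.simple j.val) : Fˣ) : F) = -1 := by
          rw [char_single, Units.val_zpow_eq_zpow_val, Units.val_neg, Units.val_one,
            (Int.odd_iff.2 (by omega)).neg_one_zpow]
        calc n * BNSetup.torusHom F D (Pi.mulSingle i (-1)) * xg D F (D.simple j.val) u *
              (n * BNSetup.torusHom F D (Pi.mulSingle i (-1)))⁻¹
            = n * (BNSetup.torusHom F D (Pi.mulSingle i (-1)) * xg D F (D.simple j.val) u *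
                (BNSetup.torusHom F D (Pi.mulSingle i (-1)))⁻¹) * n⁻¹ := by group
          _ = _ := by
            rw [torus_conj hD _ (hD.simple_lt j.2), hxj, hs]
            congr 1
            ring
  push Not at hpair
  set L : List (Fin D.rank) := (List.finRange D.rank).filter
    fun j => decide ((BNSetup.data hD F).wl l ((BNSetup.data hD F).simp j) = (BNSetup.data hD F).opp ((BNSetup.data hD F).simp j)) with hL
  have hmemL : ∀ j, j ∈ L ↔ (BNSetup.data hD F).wl l ((BNSetup.data hD F).simp j) = (BNSetup.data hD F).opp ((BNSetup.data hD F).simp j) := fun j => by simp [hL]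
  have hnd : L.Nodup := (List.nodup_finRange _).filter _
  have hoL : OrthList L := by
    intro i hi j hj hij
    rcases horth i.val i.2 j.val j.2 (fun e => hij (Fin.ext e)) with (h | h) | h
    · exact absurd (hpair i j ((hmemL i).1 hi) ((hmemL j).1 hj)) h
    · exact absurd (hpair j i ((hmemL j).1 hj) ((hmemL i).1 hi)) h
    · exact h
  obtain ⟨i₀, hi₀⟩ := RootBN.Data.exists_simp_neg ax l h1
  have hi₀L : i₀ ∈ L := (hmemL i₀).2 (hA i₀ hi₀)
  have hw : (BNSetup.data hD F).wl (l ++ L) = 1 := by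
    by_contra hne'
    obtain ⟨i, hi⟩ := RootBN.Data.exists_simp_neg ax _ hne'
    rw [RootBN.Data.wl_append, Equiv.Perm.mul_apply] at hi
    by_cases hiL : i ∈ L
    · rw [(wl_orth_simp hD hf hnd hoL i).2 hiL, RootBN.Data.wl_opp ax, (hmemL i).1 hiL, ax.opp_opp] at hi
      exact hi (ax.pos_simp i)
    · have hp : (BNSetup.data hD F).Pos ((BNSetup.data hD F).wl l ((BNSetup.data hD F).simp i)) := by
        by_contra h; exact hiL ((hmemL i).2 (hA i h))
      have hq : ∀ j ∈ L, (BNSetup.data hD F).wl l ((BNSetup.data hD F).simp i) ≠ (BNSetup.data hD F).simp j := by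
        intro j hj e
        have := congrArg ((BNSetup.data hD F).wl l) e
        rw [← Equiv.Perm.mul_apply, hinv, Equiv.Perm.one_apply, (hmemL j).1 hj] at this
        exact RootBN.Data.not_pos_opp_simp ax j (this ▸ ax.pos_simp i)
      have hcomm : ∀ M, M ⊆ L → (BNSetup.data hD F).wl l * (BNSetup.data hD F).wl M = (BNSetup.data hD F).wl M * (BNSetup.data hD F).wl l := by
        intro M
        induction M with
        | nil => intro _; simp
        | cons a M ihM =>
          intro hM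
          rw [RootBN.Data.wl_cons, ← mul_assoc, refl_comm_of_neg hD hf ((hmemL a).1 (hM List.mem_cons_self)),
            mul_assoc, ihM (fun x hx => hM (List.mem_cons_of_mem _ hx)), mul_assoc]
      have := (wl_orth_pos hD hf hoL L (fun x hx => hx) _ hp hq).1
      rw [← Equiv.Perm.mul_apply, ← hcomm L (fun x hx => hx), Equiv.Perm.mul_apply] at this
      exact hi this
  have hactL := hσ.mul (RootBN.Data.acts_nw ax L)
  rw [← RootBN.Data.wl_append, hw] at hactL
  have hH := RootBN.Data.mem_H_of_pos_preserving ax ((BNSetup.data hD F).N.mul_mem hn (RootBN.Data.nw_mem_N L)) hactL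
    (fun r hr => hr)
  obtain ⟨c₁, hc₁⟩ := exists_torus hD hH
  have hnd' : n = (BNSetup.data hD F).nw L * BNSetup.torusHom F D c₁⁻¹ := by
    have e : n = n⁻¹ := (inv_eq_of_mul_eq_one_right hsq).symm
    rw [e, map_inv, ← hc₁]
    group
  obtain ⟨d, hd, hd'⟩ := nw_orth_torus (F := F) hD hf hnd hoL c₁⁻¹
  obtain ⟨s, hs, hs'⟩ := nw_orth_sq (F := F) hD hf hnd hoL
  have heq : BNSetup.torusHom F D (d * s * c₁⁻¹) = 1 := by
    rw [map_mul, map_mul, ← hd, ← hs, ← hsq]
    conv_rhs => rw [hnd']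
    group
  have hone := torusHom_injective hD hf C hC (heq.trans (map_one _).symm)
  have hj := congrFun hone i₀
  rw [Pi.mul_apply, Pi.mul_apply, (hd' i₀).1 hi₀L, (hs' i₀).1 hi₀L, Pi.one_apply, Pi.inv_apply] at hj
  set χ := BNSetup.torusChar D c₁⁻¹ (D.simple i₀.val) with hχ
  have hχ' : (-χ : Fˣ) = (c₁ i₀)⁻¹ * (c₁ i₀)⁻¹ := by
    have : χ = -((c₁ i₀)⁻¹ * (c₁ i₀)⁻¹) := by
      rw [← mul_one χ, ← hj]
      simp [mul_comm, mul_left_comm]
    rw [this, neg_neg]
  refine fin n hn hσ (Cj.rfl' n) i₀ (-(χ : F)) (hA i₀ hi₀) (neg_ne_zero.2 (Units.ne_zero χ))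
    ⟨(((c₁ i₀)⁻¹ : Fˣ) : F), by rw [← Units.val_mul, ← hχ', Units.val_neg]⟩ fun u => ?_
  calc n * xg D F (D.simple i₀.val) u * n⁻¹
      = (BNSetup.data hD F).nw L * (BNSetup.torusHom F D c₁⁻¹ * xg D F (D.simple i₀.val) u *
          (BNSetup.torusHom F D c₁⁻¹)⁻¹) * ((BNSetup.data hD F).nw L)⁻¹ := by rw [hnd']; group
    _ = _ := by
      rw [torus_conj hD _ (hD.simple_lt i₀.2), (nw_orth_conj_x hD hf hnd hoL i₀).1 hi₀L, neg_mul]


/-- An involution is conjugate into the diagonal subgroup. -/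
theorem exists_cj_H [Fintype F] (h2 : (2 : F) ≠ 0) {d : ℕ} (C : BNSetup.KerCert D d 0) (hC : C.Valid)
    (horth : SimpleOrth D) {t : GL D.Idx F} (ht : t ∈ D.group F) (hsq : t * t = 1) (hne : t ≠ 1) :
    ∃ h ∈ (BNSetup.data hD F).H, Cj t h := by
  classical
  obtain ⟨p, hp⟩ := CharP.exists F
  haveI : Fact p.Prime := ⟨CharP.char_is_prime F p⟩
  have hp2 : p ≠ 2 := fun e => h2 (by subst e; exact_mod_cast CharP.cast_eq_zero F 2)
  have hAx := BNSetup.axioms (F := F) hD hf
  rw [← BNSetup.data_grp hD] at ht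
  obtain ⟨b₀, hb₀, l, u, hu, rfl⟩ := RootBN.Data.exists_normal_form hAx ht
  obtain ⟨u₁, hu₁, h, hh', rfl⟩ := (RootBN.Data.mem_B_iff hAx).1 hb₀
  have hUgrp : ∀ x ∈ (BNSetup.data hD F).U, x ∈ D.group F := fun x hx =>
    ChevSylow.posUnipotent_le_group hD hf ((BNSetup.data_U hD hf).le hx)
  have huU : u ∈ (BNSetup.data hD F).U := RootBN.Data.Um_le_U _ hu
  set v := u * u₁ with hv'
  set n := h * (BNSetup.data hD F).nw l with hn'
  have hcj : Cj (u₁ * h * (BNSetup.data hD F).nw l * u) (v * n) := ⟨u, hUgrp u huU, by rw [hv', hn']; group⟩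
  have hvU : v ∈ (BNSetup.data hD F).U := (BNSetup.data hD F).U.mul_mem huU hu₁
  have hnN : n ∈ (BNSetup.data hD F).N := (BNSetup.data hD F).N.mul_mem (RootBN.Data.H_le_N hh') (RootBN.Data.nw_mem_N l)
  obtain ⟨e1, e2⟩ := hcj.invol hsq hne
  suffices hgoal : ∃ h₁ ∈ (BNSetup.data hD F).H, Cj (v * n) h₁ from hgoal.imp fun _ hx => ⟨hx.1, hcj.trans hx.2⟩
  -- the torus part
  have hnn : n * n ∈ (BNSetup.data hD F).H := by
    have e : 1 * n * 1 = v⁻¹ * n⁻¹ * v⁻¹ := by
      rw [one_mul, mul_one]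
      calc n = v⁻¹ * (v * n) := by group
        _ = v⁻¹ * (v * n)⁻¹ := by rw [inv_eq_of_mul_eq_one_right e1]
        _ = _ := by group
    have := RootBN.Data.inv_mul_mem_H_of_eq hAx hnN ((BNSetup.data hD F).N.inv_mem hnN) (one_mem _)
      (RootBN.Data.U_le_B ((BNSetup.data hD F).U.inv_mem hvU)) (one_mem _) (RootBN.Data.U_le_B ((BNSetup.data hD F).U.inv_mem hvU)) e
    have := (BNSetup.data hD F).H.inv_mem this
    simpa using this
  have hpow : ∀ x ∈ (BNSetup.data hD F).U, ∃ j, orderOf x = p ^ j := by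
    intro x hx
    obtain ⟨j, hj⟩ := (IsPGroup.iff_orderOf.1 (ChevSylow.isPGroup_posUnipotent p hD hf (F := F)))
      ⟨x, (BNSetup.data_U hD hf).le hx⟩
    exact ⟨j, by rw [← hj, Subgroup.orderOf_mk]⟩
  have hn1 : n * n = 1 := by
    set z := n * n with hz
    set x := n⁻¹ * v * n with hx
    have hxe : x = z⁻¹ * v⁻¹ := by
      have e : v * n * (v * n) = 1 := e1
      rw [hz, hx, eq_comm]
      calc (n * n)⁻¹ * v⁻¹ = (n * n)⁻¹ * (v⁻¹ * (v * n * (v * n))) := by rw [e, mul_one]
        _ = _ := by group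
    have hpw : ∀ m : ℕ, ∃ w ∈ (BNSetup.data hD F).U, (z⁻¹ * v⁻¹) ^ m = w * (z⁻¹) ^ m := by
      intro m
      induction m with
      | zero => exact ⟨1, one_mem _, by simp⟩
      | succ m ih =>
        obtain ⟨w, hw, e⟩ := ih
        refine ⟨w * ((z⁻¹) ^ (m + 1) * v⁻¹ * ((z⁻¹) ^ (m + 1))⁻¹), (BNSetup.data hD F).U.mul_mem hw
          (RootBN.Data.H_conj_U hAx ((BNSetup.data hD F).H.pow_mem ((BNSetup.data hD F).H.inv_mem hnn) _) ((BNSetup.data hD F).U.inv_mem hvU)), ?_⟩
        rw [pow_succ, e, pow_succ]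
        group
    obtain ⟨j, hj⟩ := hpow v hvU
    obtain ⟨w, hw, e⟩ := hpw (p ^ j)
    have hx1 : x ^ p ^ j = 1 := by
      have : x = MulAut.conj n⁻¹ v := by simp [hx]
      rw [this, ← map_pow, ← hj, pow_orderOf_eq_one, map_one]
    rw [← hxe, hx1] at e
    have hzz : (z⁻¹) ^ p ^ j ∈ D.posUnipotent F ⊓ D.diagonalSubgroup F := by
      refine ⟨(BNSetup.data_U hD hf).le ?_, (BNSetup.data hD F).H.pow_mem ((BNSetup.data hD F).H.inv_mem hnn) _⟩
      rw [eq_inv_of_mul_eq_one_right e.symm]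
      exact (BNSetup.data hD F).U.inv_mem hw
    rw [BNSetup.U_inf_H hf hD, Subgroup.mem_bot, inv_pow, inv_eq_one] at hzz
    obtain ⟨i, hi, hord⟩ := (Nat.dvd_prime_pow (Fact.out : p.Prime)).1 (orderOf_dvd_of_pow_eq_one hzz)
    rcases i with _ | i
    · rwa [pow_zero, orderOf_eq_one_iff] at hord
    · exfalso
      refine ChevSylow.not_dvd_card_diagonal p hD hf (F := F) ?_
      refine (dvd_pow_self p (Nat.succ_ne_zero i)).trans ?_
      rw [← hord]
      exact Subgroup.orderOf_dvd_natCard _ hnn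
  -- odd order
  obtain ⟨j, hj⟩ := hpow v hvU
  obtain ⟨m, hm⟩ : ∃ m, p ^ j = 2 * m + 1 := by
    have hodd : Odd (p ^ j) := ((Fact.out : p.Prime).odd_of_ne_two hp2).pow
    exact hodd
  set s := v ^ (m + 1) with hs
  have hninv : n⁻¹ = n := inv_eq_of_mul_eq_one_right hn1
  have hnv : n * v * n⁻¹ = v⁻¹ := by
    rw [hninv]
    calc n * v * n = v⁻¹ * (v * n * (v * n)) := by group
      _ = _ := by rw [e1, mul_one]
  have hns : n * s * n⁻¹ = s⁻¹ := by
    have := map_pow (MulAut.conj n) v (m + 1)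
    simp only [MulAut.conj_apply] at this
    rw [hs, this, hnv, inv_pow]
  have hs2 : s * s = v := by
    rw [hs, ← pow_add, show m + 1 + (m + 1) = p ^ j + 1 by omega, pow_succ, ← hj, pow_orderOf_eq_one, one_mul]
  have hcj2 : Cj n (v * n) := by
    refine ⟨s, hUgrp s ((BNSetup.data hD F).U.pow_mem hvU _), ?_⟩
    calc s * n * s⁻¹ = s * n * (n * s * n⁻¹) := by rw [hns]
      _ = s * (n * n) * s * n⁻¹ := by group
      _ = v * n := by rw [hn1, mul_one, hs2, hninv]
  obtain ⟨f1, f2⟩ := hcj2.symm.invol e1 e2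
  obtain ⟨w, hw⟩ := RootBN.Data.exists_acts hAx hnN
  obtain ⟨h₁, hh₁, hc₁⟩ := descent hD hf h2 C hC horth _ n hnN _ hw f1 f2 rfl
  exact ⟨h₁, hh₁, hcj2.symm.trans hc₁⟩

end Cfsg.Agent.OddInvol
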