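/-
The centralizer of an involution of the diagonal subgroup: the root subgroups it centralizes form a sub-root system,
described by a checked table; the centralizer is that group times the diagonal subgroup.
-/
import Cfsg.Agent.Lib.OddInvol.Descent
import Cfsg.Agent.Lib.Chev.Order
import Cfsg.Agent.Lib.Chev.RootProducts
import Cfsg.Agent.Lib.Chev.BruhatNormalForm
import Cfsg.Agent.Lib.Offender.Thompson

set_option autoImplicit false
set_option linter.unusedSectionVars false
set_option synthInstance.maxSize 4000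

namespace Cfsg.Agent.OddInvol

open Cfsg.Lie Cfsg.Agent.Chev
open RootBN (look evWord)
open scoped MatrixGroups

variable {F : Type*} [Field F] {D : ChevalleyDatum}

/-! ### Involutions of the torus -/

/-- The point of the torus with the coordinates `-1` at `v`. -/
def cv (F : Type*) [Field F] {D : ChevalleyDatum} (v : Fin D.rank → Bool) : Fin D.rank → Fˣ :=
  fun i => if v i then -1 else 1

/-- The exponent of `-1` on a root. -/
def wt {D : ChevalleyDatum} (v : Fin D.rank → Bool) (s : ℕ) : ℤ :=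
  ∑ i, if v i then D.cartan i.val s else 0

/-- The root is centralized. -/
def IsEven {D : ChevalleyDatum} (v : Fin D.rank → Bool) (s : ℕ) : Prop := wt v s % 2 = 0

instance decidableIsEven (v : Fin D.rank → Bool) (s : ℕ) : Decidable (IsEven v s) :=
  inferInstanceAs (Decidable (_ = _))

/-- The element of the torus. -/
def tv (F : Type*) [Field F] {D : ChevalleyDatum} (v : Fin D.rank → Bool) : GL D.Idx F :=
  BNSetup.torusHom F D (cv F v)

theorem char_cv (v : Fin D.rank → Bool) (s : ℕ) :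
    BNSetup.torusChar D (cv F v) s = (-1 : Fˣ) ^ wt v s := by
  rw [wt, BNSetup.zpow_finset_sum, BNSetup.torusChar]
  refine Finset.prod_congr rfl fun i _ => ?_
  unfold cv
  cases v i <;> simp

/-- A table describing the centralized sub-root system. -/
structure SubCert where
  /-- the centralized roots, increasingly -/
  E : List ℕ
  /-- the indices of its fundamental roots -/
  S : List ℕ
  /-- packed reflection tables -/
  tabs : List ℕ
  /-- its fundamental roots as images of fundamental roots -/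
  W : List (List ℕ × ℕ)
  /-- its roots as images of its fundamental roots -/
  R : List (List ℕ × ℕ)

/-- The root of an index. -/
def SubCert.e (C : SubCert) (s : ℕ) : ℕ := C.E.getD s 0

/-- The reflection word of a fundamental root of the subsystem. -/
def SubCert.rword (C : SubCert) (k : ℕ) : List ℕ :=
  (C.W.getD k ([], 0)).1 ++ [(C.W.getD k ([], 0)).2] ++ (C.W.getD k ([], 0)).1.reverse

/-- The conditions on a table. -/
def SubCert.Valid (C : SubCert) (D : ChevalleyDatum) (tabs simps : List ℕ) (v : Fin D.rank → Bool) : Prop :=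
  (C.E.Nodup ∧ (∀ r ∈ C.E, r < D.nroots ∧ IsEven v r) ∧ (∀ r < D.nroots, IsEven v r → r ∈ C.E) ∧
    C.E.length % 2 = 0) ∧
  (∀ s < C.E.length, C.e (C.E.length - 1 - s) = D.nroots - 1 - C.e s ∧
    (C.E.length / 2 ≤ s ↔ D.nroots / 2 ≤ C.e s)) ∧
  (C.S.Nodup ∧ ∀ k < C.S.length, C.E.length / 2 ≤ C.S.getD k 0 ∧ C.S.getD k 0 < C.E.length ∧
    (∀ x ∈ (C.W.getD k ([], 0)).1, x < D.rank) ∧ (C.W.getD k ([], 0)).2 < D.rank ∧
    evWord tabs (C.W.getD k ([], 0)).1 (simps.getD (C.W.getD k ([], 0)).2 0) = C.e (C.S.getD k 0)) ∧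
  (∀ k < C.S.length, look (C.tabs.getD k 0) (C.S.getD k 0) = C.E.length - 1 - C.S.getD k 0 ∧
    ∀ s < C.E.length, look (C.tabs.getD k 0) s < C.E.length ∧
      evWord tabs (C.rword k) (C.e s) = C.e (look (C.tabs.getD k 0) s) ∧
      look (C.tabs.getD k 0) (look (C.tabs.getD k 0) s) = s ∧
      look (C.tabs.getD k 0) (C.E.length - 1 - s) = C.E.length - 1 - look (C.tabs.getD k 0) s ∧
      (C.E.length / 2 ≤ s → s ≠ C.S.getD k 0 → C.E.length / 2 ≤ look (C.tabs.getD k 0) s)) ∧
  (∀ s < C.E.length, (∀ x ∈ (C.R.getD s ([], 0)).1, x < C.S.length) ∧ (C.R.getD s ([], 0)).2 < C.S.length ∧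
    evWord C.tabs (C.R.getD s ([], 0)).1 (C.S.getD (C.R.getD s ([], 0)).2 0) = s)

instance decidableValid (C : SubCert) (D : ChevalleyDatum) (tabs simps : List ℕ) (v : Fin D.rank → Bool) :
    Decidable (C.Valid D tabs simps v) := by
  unfold SubCert.Valid; infer_instance

variable (hD : Good D) {tabs simps : List ℕ} {v : Fin D.rank → Bool} {C : SubCert}

/-- The root of an index in the root set. -/
def ei (hC : C.Valid D tabs simps v) (s : Fin C.E.length) : Fin D.nroots :=
  ⟨C.e s.val, (hC.1.2.1 _ (by rw [SubCert.e, List.getD_eq_getElem (hn := s.2)]; exact List.getElem_mem _)).1⟩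

/-- The root data of the centralized roots. -/
def sub (F : Type*) [Field F] (hC : C.Valid D tabs simps v) :
    RootBN.Data (GL D.Idx F) (Fin C.E.length) (Fin C.S.length) where
  X s := D.rootSubgroup F (ei hC s).val
  H := D.diagonalSubgroup F ⊓ ⨆ s : Fin C.E.length, D.rootSubgroup F (ei hC s).val
  nn k := BNSetup.ne' hD (C.e (C.S.getD k.val 0)) 1
  nroot s := BNSetup.ne' hD (ei hC s).val 1
  refl k := Function.Involutive.toPerm
    (fun s => ⟨look (C.tabs.getD k.val 0) s.val, ((hC.2.2.2.1 k.val k.2).2 s.val s.2).1⟩)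
    (fun s => Fin.ext ((hC.2.2.2.1 k.val k.2).2 s.val s.2).2.2.1)
  opp s := ⟨C.E.length - 1 - s.val, by have := s.2; omega⟩
  simp k := ⟨C.S.getD k.val 0, (hC.2.2.1.2 k.val k.2).2.1⟩
  Pos s := C.E.length / 2 ≤ s.val

section sub

variable (hC : C.Valid D tabs simps v)

theorem ei_inj : Function.Injective (ei hC) := fun s s' h => Fin.ext (by
  have h' : C.e s.val = C.e s'.val := congrArg Fin.val h
  rw [SubCert.e, SubCert.e, List.getD_eq_getElem (hn := s.2), List.getD_eq_getElem (hn := s'.2)] at h'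
  exact (hC.1.1.getElem_inj_iff).1 h')

theorem ei_even (s : Fin C.E.length) : IsEven v (ei hC s).val :=
  (hC.1.2.1 _ (by rw [show (ei hC s).val = C.e s.val from rfl, SubCert.e, List.getD_eq_getElem (hn := s.2)];
                  exact List.getElem_mem _)).2

theorem exists_ei {r : Fin D.nroots} (h : IsEven v r.val) : ∃ s, ei hC s = r := by
  obtain ⟨j, hj, e⟩ := List.getElem_of_mem (hC.1.2.2.1 r.val r.2 h)
  exact ⟨⟨j, hj⟩, Fin.ext (by show C.e j = _; rw [SubCert.e, List.getD_eq_getElem (hn := hj), e])⟩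

variable (hf : BNSetup.Facts D tabs simps)
include hC hf

theorem ei_opp (s : Fin C.E.length) :
    (ei hC ((sub hD F hC).opp s)).val = D.neg (ei hC s).val := by
  rw [BNSetup.neg_eq hf (ei hC s).2]
  exact (hC.2.1 s.val s.2).1

theorem ei_pos (s : Fin C.E.length) : (sub hD F hC).Pos s ↔ D.nroots / 2 ≤ (ei hC s).val :=
  (hC.2.1 s.val s.2).2

include hD

theorem val_wl (d : List (Fin D.rank)) (r : Fin D.nroots) :
    evWord tabs (d.map Fin.val) r.val = ((BNSetup.data hD F).wl d r).val :=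
  RootBN.Data.evWord_eq (D := BNSetup.data hD F)
    (fun i s => ((hf.2.2.2.2.1 i.val i.2).2.2.2.1 s.val s.2).1) d r

/-- The reflection word in the letters of the whole group. -/
def rw' (D : ChevalleyDatum) (C : SubCert) (k : ℕ) : List (Fin D.rank) := RootBN.Data.toFin (C.rword k)

theorem map_rw' {k : ℕ} (hk : k < C.S.length) : (rw' D C k).map Fin.val = C.rword k := by
  refine RootBN.Data.map_val_toFin fun x hx => ?_
  obtain ⟨-, -, h1, h2, -⟩ := hC.2.2.1.2 k hk
  simp only [SubCert.rword, List.mem_append, List.mem_reverse, List.mem_singleton] at hx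
  rcases hx with (hx | rfl) | hx
  exacts [h1 x hx, h2, h1 x hx]

/-- A fundamental `n` of the subsystem in `N`. -/
theorem sub_nn_parent (k : Fin C.S.length) : (sub hD F hC).nn k ∈ (BNSetup.data hD F).N ∧
    (BNSetup.data hD F).Acts ((sub hD F hC).nn k) ((BNSetup.data hD F).wl (rw' D C k.val)) := by
  have ax := BNSetup.axioms (F := F) hD hf
  obtain ⟨-, -, h1, h2, h3⟩ := hC.2.2.1.2 k.val k.2
  set w : List (Fin D.rank) := RootBN.Data.toFin (C.W.getD k.val ([], 0)).1 with hw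
  set i : Fin D.rank := ⟨(C.W.getD k.val ([], 0)).2, h2⟩
  have hr : (BNSetup.data hD F).wl w ((BNSetup.data hD F).simp i) = ei hC ((sub hD F hC).simp k) := by
    refine Fin.ext ?_
    rw [← val_wl hD hC hf, hw, RootBN.Data.map_val_toFin h1]
    show evWord tabs _ (D.simple i.val) = C.e _
    rw [(hf.2.2.2.2.1 i.val i.2).1]
    exact h3
  obtain ⟨h, hh, e⟩ := RootBN.Data.conj_nroot_nw ax w ((BNSetup.data hD F).simp i)
  rw [ax.nroot_simp, hr] at e
  have e' : (sub hD F hC).nn k = h⁻¹ * ((BNSetup.data hD F).nw w * (BNSetup.data hD F).nn i *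
      ((BNSetup.data hD F).nw w)⁻¹) := by rw [e, inv_mul_cancel_left]; rfl
  have hword : rw' D C k.val = w ++ [i] ++ w.reverse := by
    refine List.map_injective_iff.2 Fin.val_injective ?_
    rw [map_rw' hD hC hf k.2]
    simp only [SubCert.rword, List.map_append, List.map_reverse, hw, RootBN.Data.map_val_toFin h1, List.map_cons,
      List.map_nil, i]
  rw [e']
  refine ⟨Subgroup.mul_mem _ (RootBN.Data.H_le_N (Subgroup.inv_mem _ hh)) (Subgroup.mul_mem _
    (Subgroup.mul_mem _ (RootBN.Data.nw_mem_N w) (RootBN.Data.nn_mem_N i))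
    (Subgroup.inv_mem _ (RootBN.Data.nw_mem_N w))), ?_⟩
  rw [hword, RootBN.Data.wl_append, RootBN.Data.wl_append, RootBN.Data.wl_cons, RootBN.Data.wl_nil, mul_one,
    RootBN.Data.wl_reverse ax]
  simpa using (RootBN.Data.acts_H ax (Subgroup.inv_mem _ hh)).mul
    (((RootBN.Data.acts_nw ax w).mul (RootBN.Data.acts_nn ax i)).mul (RootBN.Data.acts_nw ax w).inv)

theorem rw'_ei (k : Fin C.S.length) (s : Fin C.E.length) :
    (BNSetup.data hD F).wl (rw' D C k.val) (ei hC s) = ei hC ((sub hD F hC).refl k s) := by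
  refine Fin.ext ?_
  rw [← val_wl hD hC hf, map_rw' hD hC hf k.2]
  exact ((hC.2.2.2.1 k.val k.2).2 s.val s.2).2.1

/-- Words in the reflections of the subsystem. -/
def lift (D : ChevalleyDatum) (C : SubCert) (d : List (Fin C.S.length)) : List (Fin D.rank) :=
  d.flatMap fun k => rw' D C k.val

theorem lift_ei (d : List (Fin C.S.length)) (s : Fin C.E.length) :
    (BNSetup.data hD F).wl (lift D C d) (ei hC s) = ei hC ((sub hD F hC).wl d s) := by
  induction d with
  | nil => rfl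
  | cons k d ih =>
    simp only [lift, List.flatMap_cons, RootBN.Data.wl_append, RootBN.Data.wl_cons, Equiv.Perm.mul_apply] at ih ⊢
    rw [ih, rw'_ei hD hC hf]

theorem lift_even (d : List (Fin C.S.length)) (r : Fin D.nroots) :
    IsEven v ((BNSetup.data hD F).wl (lift D C d) r).val ↔ IsEven v r.val := by
  constructor
  · intro h
    obtain ⟨s, hs⟩ := exists_ei hC h
    obtain ⟨s', rfl⟩ : ∃ s', (sub hD F hC).wl d s' = s := ⟨((sub hD F hC).wl d).symm s, by simp⟩
    rw [← lift_ei hD hC hf d s'] at hs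
    rw [← ((BNSetup.data hD F).wl (lift D C d)).injective hs]
    exact ei_even hC s'
  · intro h
    obtain ⟨s, rfl⟩ := exists_ei hC h
    rw [lift_ei hD hC hf]
    exact ei_even hC _

theorem sub_nw_parent (d : List (Fin C.S.length)) : (sub hD F hC).nw d ∈ (BNSetup.data hD F).N ∧
    (BNSetup.data hD F).Acts ((sub hD F hC).nw d) ((BNSetup.data hD F).wl (lift D C d)) := by
  induction d with
  | nil => exact ⟨one_mem _, by simpa [lift] using RootBN.Data.acts_one⟩
  | cons k d ih =>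
    obtain ⟨h1, h2⟩ := sub_nn_parent (F := F) hD hC hf k
    rw [RootBN.Data.nw_cons]
    refine ⟨Subgroup.mul_mem _ h1 ih.1, ?_⟩
    simpa [lift, List.flatMap_cons, RootBN.Data.wl_append] using h2.mul ih.2

omit hf in
theorem xe_mem_sub (s : Fin C.E.length) (u : F) : BNSetup.xe hD (ei hC s).val u ∈ (sub hD F hC).grp :=
  RootBN.Data.X_le_grp (D := sub hD F hC) s
    ((BNSetup.mem_rootSubgroup hD (ei hC s).2).2 ⟨u, rfl⟩)

theorem ne'_mem_sub (s : Fin C.E.length) (u : F) : BNSetup.ne' hD (ei hC s).val u ∈ (sub hD F hC).grp := by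
  refine Subgroup.mul_mem _ (Subgroup.mul_mem _ (xe_mem_sub hD hC s u) ?_) (xe_mem_sub hD hC s u)
  rw [← ei_opp (F := F) hD hC hf]
  exact xe_mem_sub hD hC _ _

theorem parent_nroot (r : Fin D.nroots) : (BNSetup.data hD F).nroot r ∈ (BNSetup.data hD F).N := by
  have ax := BNSetup.axioms (F := F) hD hf
  obtain ⟨l, i, rfl⟩ := ax.reach r
  obtain ⟨h, hh, e⟩ := RootBN.Data.conj_nroot_nw ax l ((BNSetup.data hD F).simp i)
  rw [ax.nroot_simp] at e
  rw [show (BNSetup.data hD F).nroot ((BNSetup.data hD F).wl l ((BNSetup.data hD F).simp i)) =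
    h⁻¹ * ((BNSetup.data hD F).nw l * (BNSetup.data hD F).nn i * ((BNSetup.data hD F).nw l)⁻¹) by
      rw [e, inv_mul_cancel_left]]
  exact Subgroup.mul_mem _ (RootBN.Data.H_le_N (Subgroup.inv_mem _ hh)) (Subgroup.mul_mem _
    (Subgroup.mul_mem _ (RootBN.Data.nw_mem_N l) (RootBN.Data.nn_mem_N i))
    (Subgroup.inv_mem _ (RootBN.Data.nw_mem_N l)))

theorem conj_nroot_N {n : GL D.Idx F} {σ : Equiv.Perm (Fin D.nroots)} (hn : n ∈ (BNSetup.data hD F).N)
    (hσ : (BNSetup.data hD F).Acts n σ) (r : Fin D.nroots) : ∃ h ∈ (BNSetup.data hD F).H,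
      n * (BNSetup.data hD F).nroot r * n⁻¹ = h * (BNSetup.data hD F).nroot (σ r) := by
  have ax := BNSetup.axioms (F := F) hD hf
  obtain ⟨h₀, hh₀, l, rfl⟩ := RootBN.Data.exists_word ax hn
  obtain rfl := RootBN.Data.acts_unique ax hσ (RootBN.Data.acts_mul_nw ax hh₀ l)
  obtain ⟨h, hh, e⟩ := RootBN.Data.conj_nroot_nw ax l r
  set m := (BNSetup.data hD F).nroot ((BNSetup.data hD F).wl l r) with hm
  refine ⟨h₀ * h * (m * h₀⁻¹ * m⁻¹), Subgroup.mul_mem _ (Subgroup.mul_mem _ hh₀ hh)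
    (RootBN.Data.N_conj_H ax (parent_nroot hD hC hf _) (Subgroup.inv_mem _ hh₀)), ?_⟩
  calc h₀ * (BNSetup.data hD F).nw l * (BNSetup.data hD F).nroot r * (h₀ * (BNSetup.data hD F).nw l)⁻¹
      = h₀ * ((BNSetup.data hD F).nw l * (BNSetup.data hD F).nroot r * ((BNSetup.data hD F).nw l)⁻¹) * h₀⁻¹ := by
        group
    _ = _ := by rw [e]; group

omit hD hC hf in
theorem closed_even (hD : Good D) : BNSetup.ClosedPos D {r : Fin D.nroots | D.nroots / 2 ≤ r.val ∧ IsEven v r.val} ↔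
    ∀ r : Fin D.nroots, D.nroots / 2 ≤ r.val → IsEven v r.val → ∀ s : Fin D.nroots, D.nroots / 2 ≤ s.val →
      IsEven v s.val → ∀ x ∈ D.commTerms r.val s.val, ∀ h : x.1 < D.nroots, D.nroots / 2 ≤ x.1 ∧ IsEven v x.1 := by
  simp only [BNSetup.ClosedPos, Set.mem_setOf_eq, and_imp]
  exact ⟨fun h => h.2, fun h => ⟨fun r hr _ => hr, h⟩⟩

/-- The centralized positive roots are closed. -/
theorem closedEven : BNSetup.ClosedPos D {r : Fin D.nroots | D.nroots / 2 ≤ r.val ∧ IsEven v r.val} := by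
  refine (closed_even hD).2 fun r hr hre s hs hse x hx hlt => ?_
  obtain ⟨-, h1, -⟩ := BNSetup.commTerms_pos hD hf r.2 s.2 hr hs hx
  refine ⟨by omega, ?_⟩
  obtain ⟨-, -, hlin⟩ := BNSetup.commTerms_cartan hD r.2 s.2 hx
  have e : wt v x.1 = (x.2.2.1 : ℤ) * wt v r.val + (x.2.2.2 : ℤ) * wt v s.val := by
    simp only [wt, Finset.mul_sum, ← Finset.sum_add_distrib]
    refine Finset.sum_congr rfl fun i _ => ?_
    split_ifs
    · exact hlin i.val i.2
    · simp
  unfold IsEven at hre hse ⊢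
  rw [e, Int.add_emod, Int.mul_emod, hre, Int.mul_emod (x.2.2.2 : ℤ), hse]
  simp

theorem sub_axioms : (sub hD F hC).Axioms where
  pos_opp s := by
    show C.E.length / 2 ≤ C.E.length - 1 - s.val ↔ ¬ C.E.length / 2 ≤ s.val
    have := s.2; have := hC.1.2.2.2; omega
  opp_opp s := Fin.ext (by show C.E.length - 1 - (C.E.length - 1 - s.val) = s.val; have := s.2; omega)
  pos_simp k := (hC.2.2.1.2 k.val k.2).1
  refl_simp k := Fin.ext (hC.2.2.2.1 k.val k.2).1
  refl_opp k s := Fin.ext ((hC.2.2.2.1 k.val k.2).2 s.val s.2).2.2.2.1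
  refl_refl k s := Fin.ext ((hC.2.2.2.1 k.val k.2).2 s.val s.2).2.2.1
  refl_pos k s hs hne := ((hC.2.2.2.1 k.val k.2).2 s.val s.2).2.2.2.2 hs (fun h => hne (Fin.ext h))
  simp_inj k k' h := Fin.ext (by
    have h' : C.S.getD k.val 0 = C.S.getD k'.val 0 := congrArg Fin.val h
    rw [List.getD_eq_getElem (hn := k.2), List.getD_eq_getElem (hn := k'.2)] at h'
    exact (hC.2.2.1.1.getElem_inj_iff).1 h')
  reach s := by
    obtain ⟨h1, h2, h3⟩ := hC.2.2.2.2 s.val s.2
    refine ⟨RootBN.Data.toFin (C.R.getD s.val ([], 0)).1, ⟨_, h2⟩, Fin.ext ?_⟩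
    rw [← RootBN.Data.evWord_eq (D := sub hD F hC) (tabs := C.tabs) (fun _ _ => rfl),
      RootBN.Data.map_val_toFin h1]
    exact h3
  X_inj s s' h := ei_inj hC ((BNSetup.axioms (F := F) hD hf).X_inj h)
  X_ne_bot s := (BNSetup.axioms (F := F) hD hf).X_ne_bot (ei hC s)
  H_le := inf_le_right
  nn_mem k := ne'_mem_sub hD hC hf ((sub hD F hC).simp k) 1
  conj_X k s y hy := by
    have h := ((sub_nn_parent (F := F) hD hC hf k).2 (ei hC s) y).2 hy
    rw [rw'_ei hD hC hf] at h
    exact h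
  H_conj s h hh y hy := (BNSetup.axioms (F := F) hD hf).H_conj (ei hC s) h hh.1 y hy
  nn_H k h hh := ⟨RootBN.Data.N_conj_H (BNSetup.axioms (F := F) hD hf) (sub_nn_parent hD hC hf k).1 hh.1,
    Subgroup.mul_mem _ (Subgroup.mul_mem _ (ne'_mem_sub hD hC hf ((sub hD F hC).simp k) 1) hh.2)
      (Subgroup.inv_mem _ (ne'_mem_sub hD hC hf ((sub hD F hC).simp k) 1))⟩
  nn_sq k := ⟨BNSetup.ne'_mul_ne'_mem hD (ei hC ((sub hD F hC).simp k)).2 one_ne_zero one_ne_zero,
    Subgroup.mul_mem _ (ne'_mem_sub hD hC hf ((sub hD F hC).simp k) 1)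
      (ne'_mem_sub hD hC hf ((sub hD F hC).simp k) 1)⟩
  nroot_simp _ := rfl
  conj_nroot k s := by
    obtain ⟨hN, hA⟩ := sub_nn_parent (F := F) hD hC hf k
    obtain ⟨h, hh, e⟩ := conj_nroot_N hD hC hf hN hA (ei hC s)
    rw [rw'_ei hD hC hf] at e
    change (sub hD F hC).nn k * (sub hD F hC).nroot s * ((sub hD F hC).nn k)⁻¹ =
      h * (sub hD F hC).nroot ((sub hD F hC).refl k s) at e
    refine ⟨h, ⟨hh, ?_⟩, e⟩
    rw [show h = (sub hD F hC).nn k * (sub hD F hC).nroot s * ((sub hD F hC).nn k)⁻¹ *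
      ((sub hD F hC).nroot ((sub hD F hC).refl k s))⁻¹ by rw [e, mul_inv_cancel_right]]
    exact Subgroup.mul_mem _ (Subgroup.mul_mem _ (Subgroup.mul_mem _
      (ne'_mem_sub hD hC hf ((sub hD F hC).simp k) 1) (ne'_mem_sub hD hC hf s 1))
      (Subgroup.inv_mem _ (ne'_mem_sub hD hC hf ((sub hD F hC).simp k) 1)))
      (Subgroup.inv_mem _ (ne'_mem_sub hD hC hf ((sub hD F hC).refl k s) 1))
  simp_normal k s hs hne y hy z hz := by
    obtain ⟨t, rfl⟩ := (BNSetup.mem_rootSubgroup hD (ei hC _).2).1 hy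
    obtain ⟨u, rfl⟩ := (BNSetup.mem_rootSubgroup hD (ei hC s).2).1 hz
    have hp := (ei_pos (F := F) hD hC hf ((sub hD F hC).simp k)).1 (hC.2.2.1.2 k.val k.2).1
    have hs' := (ei_pos (F := F) hD hC hf s).1 hs
    refine BNSetup.xe_conj_mem_terms hD hf (ei hC _).2 (ei hC s).2 hp hs' t u
      (RootBN.Data.X_le_Urad (D := sub hD F hC) hs hne ((BNSetup.mem_rootSubgroup hD (ei hC s).2).2 ⟨u, rfl⟩))
      fun _ x hx hlt h1 h2 w => ?_
    obtain ⟨hxp, hxe⟩ := (closed_even hD).1 (closedEven hD hC hf) _ hp (ei_even hC _) _ hs' (ei_even hC s) x hx hlt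
    obtain ⟨j, hj⟩ := exists_ei hC (r := ⟨x.1, hlt⟩) hxe
    refine RootBN.Data.X_le_Urad (D := sub hD F hC) (r := j) ?_ ?_ ?_
    · rw [ei_pos hD hC hf, hj]; exact hxp
    · rintro rfl
      have := congrArg Fin.val hj
      simp only at this; omega
    · exact (BNSetup.mem_rootSubgroup hD (ei hC j).2).2 ⟨w, by rw [hj]⟩
  rank_one k y hy hy1 := by
    set r := ei hC ((sub hD F hC).simp k) with hr
    change y ∈ D.rootSubgroup F (ei hC ((sub hD F hC).opp ((sub hD F hC).simp k))).val at hy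
    rw [ei_opp hD hC hf] at hy
    obtain ⟨u, rfl⟩ := hD.mem_rootSubgroup_iff.1 hy
    have hu : u ≠ 0 := fun h => hy1 (by rw [h, hD.xg_zero])
    obtain ⟨φ, p1, p2, p3, -⟩ := exists_phi (F := F) hD r.2
    have hne : (-u⁻¹ : F) ≠ 0 := neg_ne_zero.2 (inv_ne_zero hu)
    have hsl : (lowerSL u : SL(2, F)) = upperSL u⁻¹ * G2OddInvol.nSL (-u⁻¹) * upperSL u⁻¹ := Subtype.ext (by
      simp only [Matrix.SpecialLinearGroup.coe_mul, G2OddInvol.coe_nSL hne, coe_upperSL, coe_lowerSL]
      ext a b; fin_cases a <;> fin_cases b <;> simp [Matrix.mul_apply, Fin.sum_univ_two, hu, inv_neg])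
    refine ⟨xg D F r.val u⁻¹, hD.xg_mem_rootSubgroup _ _, hG D F r.val (-u⁻¹), ⟨?_, ?_⟩, xg D F r.val u⁻¹,
      hD.xg_mem_rootSubgroup _ _, ?_⟩
    · exact Subgroup.subset_closure ⟨_, _, r.2, hne, hD.coe_hG _ _⟩
    · rw [hG_eq, ← ne_eq_nG hD, ← ne_eq_nG hD]
      exact Subgroup.mul_mem _ (ne'_mem_sub hD hC hf _ _) (ne'_mem_sub hD hC hf _ _)
    · have hnn : (sub hD F hC).nn k = nG D F r.val 1 := ne_eq_nG hD _ _
      rw [hnn, ← p2, hsl, map_mul, map_mul, p1, p3]
      simp only [mul_assoc]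
      congr 1
      rw [← mul_assoc, hG_eq, mul_assoc (nG D F r.val (-u⁻¹)), ← hD.nG_inv r.2 one_ne_zero, inv_mul_cancel,
        mul_one]
  neg_not_mem s hs := by
    have hneg : ¬ D.nroots / 2 ≤ (ei hC s).val := fun h => hs ((ei_pos hD hC hf s).2 h)
    rw [Subgroup.eq_bot_iff_forall]
    rintro y ⟨hy, hyB⟩
    obtain ⟨u, rfl⟩ := (BNSetup.mem_rootSubgroup hD (ei hC s).2).1 hy
    have hle : (sub hD F hC).B ≤ D.borelSubgroup F := by
      refine sup_le (iSup₂_le fun j hj z hz => ?_) (inf_le_left.trans le_sup_right)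
      obtain ⟨w, rfl⟩ := hD.mem_rootSubgroup_iff.1 hz
      exact Subgroup.mem_sup_left (Subgroup.subset_closure ⟨_, w,
        (BNSetup.pos_iff hf (ei hC j).2).2 ((ei_pos (F := F) hD hC hf j).1 hj), hD.coe_xg _ _⟩)
    rw [BNSetup.neg_inf_borel hD hf (ei hC s).2 (by omega) (hle hyB), BNSetup.xe_zero hD (ei hC s).2]

theorem sub_U_eq : (sub hD F hC).U =
    BNSetup.rootGen hD F {r : Fin D.nroots | D.nroots / 2 ≤ r.val ∧ IsEven v r.val} := by
  refine le_antisymm (iSup₂_le fun s hs z hz => ?_) ?_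
  · obtain ⟨w, rfl⟩ := (BNSetup.mem_rootSubgroup hD (ei hC s).2).1 hz
    exact BNSetup.xe_mem_rootGen hD (r := ei hC s) (show ei hC s ∈ {r : Fin D.nroots |
      D.nroots / 2 ≤ r.val ∧ IsEven v r.val} from ⟨(ei_pos (F := F) hD hC hf s).1 hs, ei_even hC s⟩) w
  · rw [BNSetup.rootGen, Subgroup.closure_le]
    rintro _ ⟨r, ⟨hr, hre⟩, w, rfl⟩
    obtain ⟨s, rfl⟩ := exists_ei hC hre
    exact RootBN.Data.X_le_U (D := sub hD F hC) ((ei_pos (F := F) hD hC hf s).2 hr)
      ((BNSetup.mem_rootSubgroup hD (ei hC s).2).2 ⟨w, rfl⟩)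

theorem card_sub_U [Fintype F] : Nat.card (sub hD F hC).U = Fintype.card F ^ (C.E.length / 2) := by
  classical
  have hN : D.nroots / 2 + D.nroots / 2 = D.nroots := by have := hf.1; omega
  rw [sub_U_eq hD hC hf]
  set P := {i : Fin C.E.length // C.E.length / 2 ≤ i.val} with hP
  have hPc : Fintype.card P = C.E.length / 2 := by
    have := hC.1.2.2.2
    rw [Fintype.card_congr (Equiv.mk (β := Fin (C.E.length / 2))
      (fun i : P => ⟨i.1.val - C.E.length / 2, by have := i.1.2; have := i.2; omega⟩)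
      (fun j => ⟨⟨j.val + C.E.length / 2, by have := j.2; omega⟩, by simp⟩)
      (fun i => Subtype.ext (Fin.ext (by simp; have := i.2; omega))) (fun j => Fin.ext (by simp))), Fintype.card_fin]
  let emb : (P → F) → ℕ → F := fun f r =>
    if h : ∃ i : P, (ei hC i.1).val = r then f h.choose else 0
  have hemb : ∀ f (i : P), emb f (ei hC i.1).val = f i := by
    intro f i
    have h : ∃ j : P, (ei hC j.1).val = (ei hC i.1).val := ⟨i, rfl⟩
    simp only [emb, dif_pos h]
    rw [show h.choose = i from Subtype.ext (ei_inj hC (Fin.ext h.choose_spec))]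
  have hmem : ∀ f, BNSetup.prodFrom hD F (emb f) (D.nroots / 2) (D.nroots / 2) ∈
      BNSetup.rootGen hD F {r : Fin D.nroots | D.nroots / 2 ≤ r.val ∧ IsEven v r.val} := by
    intro f
    refine BNSetup.prodFrom_mem_of hD hN.le fun r h1 h2 hne => ?_
    by_cases h : ∃ i : P, (ei hC i.1).val = r
    · obtain ⟨i, rfl⟩ := h
      exact BNSetup.xe_mem_rootGen hD (r := ei hC i.1) (show ei hC i.1 ∈ {r : Fin D.nroots |
        D.nroots / 2 ≤ r.val ∧ IsEven v r.val} from ⟨h1, ei_even hC _⟩) _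
    · exact absurd (dif_neg h) hne
  rw [← hPc, ← Fintype.card_fun, ← Nat.card_eq_fintype_card]
  symm
  refine Nat.card_congr (Equiv.ofBijective (fun f => ⟨_, hmem f⟩) ⟨fun f f' e => funext fun i => ?_, ?_⟩)
  · have := BNSetup.prodFrom_inj hD hf hN le_rfl (congrArg Subtype.val e) (ei hC i.1).val
      ((ei_pos (F := F) hD hC hf i.1).1 i.2) (ei hC i.1).2
    rwa [hemb, hemb] at this
  · rintro ⟨g, hg⟩
    obtain ⟨t, ht, rfl⟩ := BNSetup.exists_prodFrom_rootGen hD hf (closedEven hD hC hf) hN le_rfl g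
      (BNSetup.rootGen_mono hD (T := {r : Fin D.nroots | r ∈ {r : Fin D.nroots | D.nroots / 2 ≤ r.val ∧
        IsEven v r.val} ∧ D.nroots / 2 ≤ r.val}) (fun r hr => ⟨hr, hr.1⟩) hg)
    refine ⟨fun i => t (ei hC i.1).val, Subtype.ext ?_⟩
    show BNSetup.prodFrom hD F _ _ _ = _
    congr 1
    funext r
    by_cases h : ∃ i : P, (ei hC i.1).val = r
    · obtain ⟨i, rfl⟩ := h; exact hemb (fun i => t (ei hC i.1).val) i
    · simp only [emb, dif_neg h]
      by_contra hne
      obtain ⟨-, hr, hr1, hre⟩ := ht r (Ne.symm hne)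
      obtain ⟨s, hs⟩ := exists_ei hC (r := ⟨r, hr⟩) hre
      exact h ⟨⟨s, (ei_pos (F := F) hD hC hf s).2 (by rw [hs]; exact hr1)⟩, congrArg Fin.val hs⟩

theorem card_sub_B [Fintype F] : Nat.card (sub hD F hC).B =
    Fintype.card F ^ (C.E.length / 2) * Nat.card (sub hD F hC).H := by
  classical
  have sax := sub_axioms (F := F) hD hC hf
  have hle : (sub hD F hC).U ≤ D.posUnipotent F := by
    rw [sub_U_eq hD hC hf, ← BNSetup.data_U hD hf]
    exact BNSetup.rootGen_le_U hD fun r hr => hr.1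
  rw [← card_sub_U hD hC hf, ← Nat.card_prod]
  symm
  refine Nat.card_congr (Equiv.ofBijective
    (fun p : (sub hD F hC).U × (sub hD F hC).H => (⟨p.1.1 * p.2.1,
      Subgroup.mul_mem _ (RootBN.Data.U_le_B p.1.2) (RootBN.Data.H_le_B p.2.2)⟩ : (sub hD F hC).B))
    ⟨?_, ?_⟩)
  · rintro ⟨⟨u, hu⟩, h, hh⟩ ⟨⟨w, hw⟩, k, hk⟩ e
    have e' : u * h = w * k := congrArg Subtype.val e
    have e2 : w⁻¹ * u = k * h⁻¹ := by rw [eq_mul_inv_iff_mul_eq, mul_assoc, e', inv_mul_cancel_left]
    have : w⁻¹ * u ∈ D.posUnipotent F ⊓ D.diagonalSubgroup F :=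
      ⟨Subgroup.mul_mem _ (Subgroup.inv_mem _ (hle hw)) (hle hu),
        e2 ▸ Subgroup.mul_mem _ hk.1 (Subgroup.inv_mem _ hh.1)⟩
    rw [BNSetup.U_inf_H hf hD, Subgroup.mem_bot, inv_mul_eq_one] at this
    subst this
    exact Prod.ext rfl (Subtype.ext (mul_left_cancel e'))
  · rintro ⟨g, hg⟩
    obtain ⟨u, hu, h, hh, rfl⟩ := (RootBN.Data.mem_B_iff sax).1 hg
    exact ⟨(⟨u, hu⟩, ⟨h, hh⟩), rfl⟩

theorem xg_inj {r : ℕ} (hr : r < D.nroots) {a b : F} (h : xg D F r a = xg D F r b) : a = b := by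
  by_contra hne
  refine BNSetup.xe_ne_one hD hf hr (t := -b + a) (by rwa [ne_eq, neg_add_eq_zero, eq_comm]) ?_
  rw [xe_eq hD, ← hD.xg_add, ← hD.xg_inv, h, inv_mul_cancel]

theorem tv_conj (r : Fin D.nroots) (u : F) : tv F v * xg D F r.val u * (tv F v)⁻¹ =
    xg D F r.val ((-1) ^ wt v r.val * u) := by
  rw [tv, torus_conj hD _ r.2, char_cv, Units.val_zpow_eq_zpow_val, Units.val_neg, Units.val_one]

/-- The Weyl image of an element of `N` centralizing the involution comes from the subsystem. -/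
theorem exists_sub_word [Fintype F] (h2 : (2 : F) ≠ 0) (Ls Ls' : List RootBN.Level) (hLs : Ls.length = D.rank)
    (hok : RootBN.levelsOK D.nroots tabs simps 0 Ls = true) (hLs' : Ls'.length = C.S.length)
    (hok' : RootBN.levelsOK C.E.length C.tabs C.S 0 Ls' = true) (ws : List (List ℕ))
    (hws : ∀ w ∈ ws, ∀ x ∈ w, x < D.rank)
    (hnd : (ws.map fun w => (List.range D.nroots).map fun s => decide (IsEven v (evWord tabs w s))).Nodup)
    (hm : RootBN.levelsPoly 1 Ls ≤ RootBN.levelsPoly 1 Ls' * ws.length)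
    {n : GL D.Idx F} (hn : n ∈ (BNSetup.data hD F).N) (hc : tv F v * n * (tv F v)⁻¹ = n) :
    ∃ d, (BNSetup.data hD F).Acts n ((BNSetup.data hD F).wl (lift D C d)) := by
  classical
  have ax := BNSetup.axioms (F := F) hD hf
  obtain ⟨l, hl⟩ := RootBN.Data.exists_acts ax hn
  obtain ⟨c, hcoef⟩ := exists_coef hD hf hn hl
  have hpar : ∀ r : Fin D.nroots, IsEven v ((BNSetup.data hD F).wl l r).val ↔ IsEven v r.val := by
    intro r
    obtain ⟨e, he, hx⟩ := hcoef r
    set a := (BNSetup.torusChar D c ((BNSetup.data hD F).wl l r).val : F) * e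
    have ha : a ≠ 0 := mul_ne_zero (Units.ne_zero _) (left_ne_zero_of_mul_eq_one he)
    have e1 : tv F v * (n * xg D F r.val 1 * n⁻¹) * (tv F v)⁻¹ =
        n * (tv F v * xg D F r.val 1 * (tv F v)⁻¹) * n⁻¹ := by
      have hcn : tv F v * n = n * tv F v := mul_inv_eq_iff_eq_mul.1 hc
      calc tv F v * (n * xg D F r.val 1 * n⁻¹) * (tv F v)⁻¹
          = tv F v * n * xg D F r.val 1 * (tv F v * n)⁻¹ := by group
        _ = _ := by rw [hcn]; group
    rw [hx, tv_conj hD hC hf, tv_conj hD hC hf, hx, mul_one, mul_one] at e1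
    have e2 := xg_inj hD hC hf ((BNSetup.data hD F).wl l r).2 e1
    have e3 : (-1 : F) ^ wt v ((BNSetup.data hD F).wl l r).val = (-1) ^ wt v r.val :=
      mul_right_cancel₀ ha (by rw [e2]; ring)
    have hm1 : (-1 : F) ≠ 1 := fun h => h2 (by linear_combination -h)
    unfold IsEven
    rcases Int.emod_two_eq_zero_or_one (wt v ((BNSetup.data hD F).wl l r).val) with h | h <;>
      rcases Int.emod_two_eq_zero_or_one (wt v r.val) with h' | h'
    · exact iff_of_true h h'
    · rw [(Int.even_iff.2 h).neg_one_zpow, (Int.odd_iff.2 h').neg_one_zpow] at e3; exact absurd e3.symm hm1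
    · rw [(Int.odd_iff.2 h).neg_one_zpow, (Int.even_iff.2 h').neg_one_zpow] at e3; exact absurd e3 hm1
    · exact iff_of_false (by omega) (by omega)
  set W := (BNSetup.data hD F).weyl
  set St := W.filter fun σ => ∀ r : Fin D.nroots, IsEven v (σ r).val ↔ IsEven v r.val
  have hW : W.card = RootBN.levelsPoly 1 Ls := by
    have := RootBN.Data.sum_weyl_of_levels (D := BNSetup.data hD F) ax
      (fun i s => ((hf.2.2.2.2.1 i.val i.2).2.2.2.1 s.val s.2).1) (fun _ => Iff.rfl)
      (fun r => (hf.2.2.1 r.val r.2).1) (fun i => (hf.2.2.2.2.1 i.val i.2).1) hf.2.2.2.1 Ls hLs hok 1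
    simpa using this
  have hW' : (sub hD F hC).weyl.card = RootBN.levelsPoly 1 Ls' := by
    have := RootBN.Data.sum_weyl_of_levels (D := sub hD F hC) (sub_axioms hD hC hf)
      (fun _ _ => rfl) (fun _ => Iff.rfl) (fun _ => rfl) (fun _ => rfl) rfl Ls' hLs' hok' 1
    simpa using this
  -- the subsystem maps into the stabilizer
  let up : Equiv.Perm (Fin C.E.length) → Equiv.Perm (Fin D.nroots) := fun σ =>
    if h : ∃ d, (sub hD F hC).wl d = σ then (BNSetup.data hD F).wl (lift D C h.choose) else 1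
  have hup : ∀ σ ∈ (sub hD F hC).weyl, up σ ∈ St ∧ ∀ s, up σ (ei hC s) = ei hC (σ s) := by
    intro σ hσ
    have h := RootBN.Data.mem_weyl.1 hσ
    simp only [up, dif_pos h]
    refine ⟨Finset.mem_filter.2 ⟨RootBN.Data.mem_weyl.2 ⟨_, rfl⟩, lift_even hD hC hf _⟩, fun s => ?_⟩
    rw [lift_ei hD hC hf, h.choose_spec]
  have hinj : Set.InjOn up (sub hD F hC).weyl := by
    intro σ hσ τ hτ e
    refine Equiv.ext fun s => ei_inj hC ?_
    rw [← (hup σ hσ).2, ← (hup τ hτ).2, e]
  -- the orbit bounds the stabilizer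
  have hbound : St.card * ws.length ≤ W.card := by
    rw [← Fintype.card_fin ws.length, ← Finset.card_univ (α := Fin ws.length), ← Finset.card_product]
    refine Finset.card_le_card_of_injOn
      (fun p => p.1 * (BNSetup.data hD F).wl (RootBN.Data.toFin (ws.get p.2))) (fun p hp => ?_) ?_
    · obtain ⟨h1, -⟩ := Finset.mem_product.1 hp
      obtain ⟨l₁, hl₁⟩ := RootBN.Data.mem_weyl.1 (Finset.mem_filter.1 h1).1
      exact RootBN.Data.mem_weyl.2 ⟨l₁ ++ RootBN.Data.toFin (ws.get p.2), by rw [RootBN.Data.wl_append, hl₁]⟩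
    · rintro ⟨σ, i⟩ hp ⟨τ, j⟩ hq e
      simp only at e
      have hσ := (Finset.mem_filter.1 (Finset.mem_product.1 hp).1).2
      have hτ := (Finset.mem_filter.1 (Finset.mem_product.1 hq).1).2
      have hij : i = j := by
        refine Fin.ext ((hnd.getElem_inj_iff (hi := by simp) (hj := by simp)).1 ?_)
        simp only [List.getElem_map]
        refine List.map_congr_left fun s hs => ?_
        rw [List.mem_range] at hs
        have hev : ∀ k : Fin ws.length, evWord tabs ws[k.val] s =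
            ((BNSetup.data hD F).wl (RootBN.Data.toFin (ws.get k)) ⟨s, hs⟩).val := fun k => by
          rw [← val_wl hD hC hf, RootBN.Data.map_val_toFin (hws _ (List.get_mem ws k))]; rfl
        rw [hev i, hev j, decide_eq_decide]
        have := congrArg (fun f : Equiv.Perm (Fin D.nroots) => f ⟨s, hs⟩) e
        simp only [Equiv.Perm.mul_apply] at this
        exact (hσ _).symm.trans ((iff_of_eq (by rw [this])).trans (hτ _))
      subst hij
      exact Prod.ext (mul_right_cancel e) rfl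
  have hsub : (sub hD F hC).weyl.image up ⊆ St := fun x hx => by
    obtain ⟨σ, hσ, rfl⟩ := Finset.mem_image.1 hx; exact (hup σ hσ).1
  have hws0 : 0 < ws.length := by
    rcases Nat.eq_zero_or_pos ws.length with h | h
    · rw [h, mul_zero, Nat.le_zero, ← hW, Finset.card_eq_zero] at hm
      exact (Finset.ne_empty_of_mem (s := W) (RootBN.Data.mem_weyl.2 ⟨[], rfl⟩) hm).elim
    · exact h
  have heq : (sub hD F hC).weyl.image up = St := by
    refine Finset.eq_of_subset_of_card_le hsub ?_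
    rw [Finset.card_image_of_injOn hinj, hW']
    refine Nat.le_of_mul_le_mul_right ?_ hws0
    exact (hbound.trans_eq hW).trans hm
  obtain ⟨σ, hσ, e⟩ := Finset.mem_image.1 (heq.ge (Finset.mem_filter.2 ⟨RootBN.Data.mem_weyl.2 ⟨l, rfl⟩, hpar⟩))
  have h := RootBN.Data.mem_weyl.1 hσ
  simp only [up, dif_pos h] at e
  exact ⟨h.choose, e.symm ▸ hl⟩

theorem tv_mem_H : tv F v ∈ (BNSetup.data hD F).H := torus_mem_H hD _

theorem H_normalizes : (BNSetup.data hD F).H ≤ Subgroup.normalizer ((sub hD F hC).grp : Set (GL D.Idx F)) := by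
  have key : ∀ h ∈ (BNSetup.data hD F).H, ∀ x ∈ (sub hD F hC).grp, h * x * h⁻¹ ∈ (sub hD F hC).grp := by
    intro h hh x hx
    refine (show (sub hD F hC).grp ≤ (sub hD F hC).grp.comap (MulAut.conj h).toMonoidHom from
      iSup_le fun s y hy => ?_) hx
    exact RootBN.Data.X_le_grp (D := sub hD F hC) s
      ((BNSetup.axioms (F := F) hD hf).H_conj (ei hC s) h hh y hy)
  intro h hh
  refine Subgroup.mem_normalizer_iff.2 fun x => ⟨key h hh x, fun hx => ?_⟩
  have := key h⁻¹ (Subgroup.inv_mem _ hh) _ hx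
  simpa [mul_assoc] using this

theorem centralizer_eq [Fintype F] (h2 : (2 : F) ≠ 0) (hneg : BNSetup.NegTri D) (Ls Ls' : List RootBN.Level)
    (hLs : Ls.length = D.rank) (hok : RootBN.levelsOK D.nroots tabs simps 0 Ls = true)
    (hLs' : Ls'.length = C.S.length) (hok' : RootBN.levelsOK C.E.length C.tabs C.S 0 Ls' = true)
    (ws : List (List ℕ)) (hws : ∀ w ∈ ws, ∀ x ∈ w, x < D.rank)
    (hnd : (ws.map fun w => (List.range D.nroots).map fun s => decide (IsEven v (evWord tabs w s))).Nodup)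
    (hm : RootBN.levelsPoly 1 Ls ≤ RootBN.levelsPoly 1 Ls' * ws.length) :
    D.group F ⊓ Subgroup.centralizer {tv F v} = (BNSetup.data hD F).H ⊔ (sub hD F hC).grp := by
  classical
  have ax := BNSetup.axioms (F := F) hD hf
  have hN : D.nroots / 2 + D.nroots / 2 = D.nroots := by have := hf.1; omega
  refine le_antisymm ?_ (sup_le (le_inf ?_ ?_) (iSup_le fun s => le_inf ?_ ?_))
  rotate_left
  · exact fun x hx => mem_group_of_mem_N hD hf (RootBN.Data.H_le_N hx)
  · intro x hx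
    obtain ⟨c, rfl⟩ := exists_torus hD hx
    rw [Subgroup.mem_centralizer_singleton_iff, tv, ← map_mul, ← map_mul, mul_comm]
  · intro x hx
    obtain ⟨w, rfl⟩ := hD.mem_rootSubgroup_iff.1 hx
    exact hD.xg_mem_group _ _
  · intro x hx
    obtain ⟨w, rfl⟩ := hD.mem_rootSubgroup_iff.1 hx
    rw [Subgroup.mem_centralizer_singleton_iff, eq_comm, ← mul_inv_eq_iff_eq_mul, tv_conj hD hC hf,
      (Int.even_iff.2 (ei_even hC s)).neg_one_zpow, one_mul]
  have hUsub : ∀ u ∈ D.posUnipotent F, tv F v * u * (tv F v)⁻¹ = u →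
      u ∈ (BNSetup.data hD F).H ⊔ (sub hD F hC).grp := by
    intro u hu he
    rw [← BNSetup.Uge_eq_U hD hf] at hu
    obtain ⟨t, -, rfl⟩ := BNSetup.exists_prodFrom hD hf hN le_rfl u hu
    have hconj : ∀ k m : ℕ, k + m ≤ D.nroots → tv F v * BNSetup.prodFrom hD F t k m * (tv F v)⁻¹ =
        BNSetup.prodFrom hD F (fun s => (-1) ^ wt v s * t s) k m := by
      intro k m
      induction m generalizing k with
      | zero => intro _; simp [BNSetup.prodFrom]
      | succ m ih =>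
        intro hkm
        rw [BNSetup.prodFrom, BNSetup.prodFrom, ← ih (k + 1) (by omega), xe_eq hD, xe_eq hD,
          ← tv_conj hD hC hf ⟨k, by omega⟩]
        group
    rw [hconj _ _ hN.le] at he
    have hinj := BNSetup.prodFrom_inj hD hf hN le_rfl he
    refine Subgroup.mem_sup_right (BNSetup.prodFrom_mem_of hD hN.le fun r h1 h2' hne => ?_)
    have hev : IsEven v r := by
      by_contra hodd
      have e := hinj r h1 (by omega)
      simp only [(Int.odd_iff.2 (by unfold IsEven at hodd; omega : wt v r % 2 = 1)).neg_one_zpow] at e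
      exact hne ((mul_eq_zero.1 (show (2 : F) * t r = 0 by linear_combination -e)).resolve_left h2)
    obtain ⟨s, hs⟩ := exists_ei hC (r := ⟨r, by omega⟩) hev
    rw [show r = (ei hC s).val from (congrArg Fin.val hs).symm]
    exact xe_mem_sub hD hC s _
  rintro g ⟨hg, hc⟩
  replace hc : g ∈ Subgroup.centralizer {tv F v} := hc
  rw [Subgroup.mem_centralizer_singleton_iff] at hc
  obtain ⟨hex, huniq⟩ := BNSetup.bruhat_normal_form (F := F) hD hf hneg
  obtain ⟨b, hb, n, hn', u, hu, rfl⟩ := hex g hg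
  have hN' : n ∈ (BNSetup.data hD F).N := (BNSetup.data_N hD hf).ge hn'
  have hbase : tv F v ∈ D.diagonalSubgroup F := tv_mem_H hD hC hf
  have hb' : tv F v ∈ D.borelSubgroup F := Subgroup.mem_sup_right hbase
  set b₀ := tv F v with hb₀
  have hh'' : b₀ * n * b₀⁻¹ * n⁻¹ ∈ (BNSetup.data hD F).H := by
    have := RootBN.Data.N_conj_H ax hN' ((BNSetup.data hD F).H.inv_mem hbase)
    have := (BNSetup.data hD F).H.mul_mem hbase this
    simpa [mul_assoc] using this
  set h' := b₀ * n * b₀⁻¹ * n⁻¹ with hh'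
  have hu' : b₀ * u * b₀⁻¹ ∈ Subgroup.closure (BNSetup.negSet F D n) := by
    refine (show Subgroup.closure (BNSetup.negSet F D n) ≤
      (Subgroup.closure (BNSetup.negSet F D n)).comap (MulAut.conj b₀).toMonoidHom from
        (Subgroup.closure_le _).2 ?_) hu
    rintro x ⟨r, w, hr, hle, hx⟩
    have hxe : x = xg D F r w := hD.eq_xg hx
    refine Subgroup.subset_closure ⟨r, (-1) ^ wt v r * w, hr, hle, ?_⟩
    show ((b₀ * x * b₀⁻¹ : GL D.Idx F) : Matrix D.Idx D.Idx F) = _
    rw [hxe, hb₀, tv_conj hD hC hf ⟨r, hr.1⟩, hD.coe_xg]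
  have hbH : b₀ * b * b₀⁻¹ * h' ∈ D.borelSubgroup F :=
    Subgroup.mul_mem _ (Subgroup.mul_mem _ (Subgroup.mul_mem _ hb' hb) (Subgroup.inv_mem _ hb'))
      (Subgroup.mem_sup_right hh'')
  have e : b * n * u = (b₀ * b * b₀⁻¹ * h') * n * (b₀ * u * b₀⁻¹) := by
    rw [hh']
    calc b * n * u = b₀ * (b * n * u) * b₀⁻¹ := by rw [← hc, mul_inv_cancel_right]
      _ = _ := by group
  obtain ⟨eb, eu⟩ := (huniq b _ n n u _ hb hbH hn' hn' hu hu' e).2 rfl
  obtain ⟨u1, hu1, h1, hh1, rfl⟩ := BNSetup.borel_decomp hD hf hb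
  have hcomm : b₀ * h1 = h1 * b₀ := by
    obtain ⟨c, rfl⟩ := exists_torus hD (show h1 ∈ (BNSetup.data hD F).H from hh1)
    rw [hb₀, tv, ← map_mul, ← map_mul, mul_comm]
  have hu1' : b₀ * u1 * b₀⁻¹ ∈ D.posUnipotent F :=
    (BNSetup.data_U hD hf).le (RootBN.Data.H_conj_U ax hbase ((BNSetup.data_U hD hf).ge hu1))
  have eb' : u1 * h1 = (b₀ * u1 * b₀⁻¹) * (h1 * h') := by
    rw [eb]
    calc b₀ * (u1 * h1) * b₀⁻¹ * h' = b₀ * u1 * b₀⁻¹ * (b₀ * h1 * b₀⁻¹) * h' := by group
      _ = _ := by rw [hcomm]; group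
  have hbot : (b₀ * u1 * b₀⁻¹)⁻¹ * u1 ∈ D.posUnipotent F ⊓ D.diagonalSubgroup F := by
    refine ⟨Subgroup.mul_mem _ (Subgroup.inv_mem _ hu1') hu1, ?_⟩
    have : (b₀ * u1 * b₀⁻¹)⁻¹ * u1 = h1 * h' * h1⁻¹ := by
      rw [inv_mul_eq_iff_eq_mul]
      calc u1 = u1 * h1 * h1⁻¹ := by group
        _ = _ := by rw [eb']; group
    rw [this]
    exact Subgroup.mul_mem _ (Subgroup.mul_mem _ hh1 hh'') (Subgroup.inv_mem _ hh1)
  rw [BNSetup.U_inf_H hf hD, Subgroup.mem_bot, inv_mul_eq_one] at hbot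
  rw [hbot] at eb'
  have h1' : h' = 1 := mul_eq_left.1 (mul_left_cancel eb').symm
  rw [hh', mul_inv_eq_one] at h1'
  have hUu : u ∈ D.posUnipotent F := by
    refine (show Subgroup.closure (BNSetup.negSet F D n) ≤ D.posUnipotent F from ?_) hu
    rw [Subgroup.closure_le]
    rintro x ⟨r, w, hr, -, hx⟩
    exact Subgroup.subset_closure ⟨r, w, hr, hx⟩
  have hnmem : n ∈ (BNSetup.data hD F).H ⊔ (sub hD F hC).grp := by
    obtain ⟨d, hd⟩ := exists_sub_word hD hC hf h2 Ls Ls' hLs hok hLs' hok' ws hws hnd hm hN' h1'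
    obtain ⟨hdN, hdA⟩ := sub_nw_parent (F := F) hD hC hf d
    have hH := RootBN.Data.mul_inv_mem_H ax hN' hdN hd hdA
    have hg' : (sub hD F hC).nw d ∈ (sub hD F hC).grp :=
      Subgroup.list_prod_mem _ fun _ hx => by
        obtain ⟨j, -, rfl⟩ := List.mem_map.1 hx; exact (sub_axioms hD hC hf).nn_mem j
    have := Subgroup.mul_mem ((BNSetup.data hD F).H ⊔ (sub hD F hC).grp) (Subgroup.mem_sup_left hH)
      (Subgroup.mem_sup_right hg')
    simpa using this
  exact Subgroup.mul_mem _ (Subgroup.mul_mem _ (Subgroup.mul_mem _ (hUsub u1 hu1 hbot)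
    (Subgroup.mem_sup_left hh1)) hnmem) (hUsub u hUu eu.symm)

/-- The order of the centralizer. -/
theorem card_centralizer [Fintype F] (h2 : (2 : F) ≠ 0) (hneg : BNSetup.NegTri D) {dd : ℕ}
    (K : BNSetup.KerCert D dd 0) (hK : K.Valid) (Ls Ls' : List RootBN.Level)
    (hLs : Ls.length = D.rank) (hok : RootBN.levelsOK D.nroots tabs simps 0 Ls = true)
    (hLs' : Ls'.length = C.S.length) (hok' : RootBN.levelsOK C.E.length C.tabs C.S 0 Ls' = true)
    (ws : List (List ℕ)) (hws : ∀ w ∈ ws, ∀ x ∈ w, x < D.rank)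
    (hnd : (ws.map fun w => (List.range D.nroots).map fun s => decide (IsEven v (evWord tabs w s))).Nodup)
    (hm : RootBN.levelsPoly 1 Ls ≤ RootBN.levelsPoly 1 Ls' * ws.length) :
    Nat.card (D.group F ⊓ Subgroup.centralizer {tv F v} : Subgroup (GL D.Idx F)) =
      Fintype.card F ^ (C.E.length / 2) * (Fintype.card F - 1) ^ D.rank *
        RootBN.levelsPoly (Fintype.card F) Ls' := by
  classical
  haveI : Finite (GL D.Idx F) := inferInstance
  rw [centralizer_eq hD hC hf h2 hneg Ls Ls' hLs hok hLs' hok' ws hws hnd hm]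
  have hinf : ((BNSetup.data hD F).H ⊓ (sub hD F hC).grp : Subgroup (GL D.Idx F)) = (sub hD F hC).H := rfl
  have h1 := Offender.card_sup_mul_card_inf (H_normalizes (F := F) hD hC hf)
  rw [hinf, RootBN.Data.card_grp (sub_axioms hD hC hf) (q := Fintype.card F)
      (fun i => BNSetup.card_rootSubgroup hD hf (ei hC _).2),
    RootBN.Data.sum_weyl_of_levels (D := sub hD F hC) (sub_axioms hD hC hf)
      (fun _ _ => rfl) (fun _ => Iff.rfl) (fun _ => rfl) (fun _ => rfl) rfl Ls' hLs' hok',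
    card_sub_B hD hC hf] at h1
  have h3 := BNSetup.card_diagonal hD (F := F) K hK
  rw [pow_zero, one_mul] at h3
  refine Nat.eq_of_mul_eq_mul_right (Nat.card_pos (α := (sub hD F hC).H)) (h1.trans ?_)
  rw [← h3]
  show Nat.card (D.diagonalSubgroup F) * _ = _
  ring

end sub

end Cfsg.Agent.OddInvol
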