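/-
Classes of involutions of a simply connected Chevalley group in odd characteristic from the action of the Weyl group
on the involutions of the diagonal subgroup.
-/
import Cfsg.Agent.Lib.OddInvol.Sub

set_option autoImplicit false
set_option linter.unusedSectionVars false

namespace Cfsg.Agent.OddInvol

open Cfsg.Lie Cfsg.Agent.Chev
open scoped MatrixGroups

/-- The coordinates of a code. -/
def vOf (D : ChevalleyDatum) (c : ℕ) : Fin D.rank → Bool := fun i => c.testBit i.val

/-- A fundamental reflection on codes. -/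
def actC (D : ChevalleyDatum) (i : ℕ) (c : ℕ) : ℕ :=
  if wt (vOf D c) (D.simple i) % 2 = 0 then c else c ^^^ 2 ^ i

variable {F : Type*} [Field F] {D : ChevalleyDatum} (hD : Good D) {tabs simps : List ℕ}
  (hf : BNSetup.Facts D tabs simps)
include hD hf

theorem cj_actC (i : Fin D.rank) (c : ℕ) : Cj (tv F (vOf D c)) (tv F (vOf D (actC D i.val c))) := by
  refine ⟨(BNSetup.data hD F).nn i, mem_group_of_mem_N hD hf (RootBN.Data.nn_mem_N i), ?_⟩
  rw [tv, nn_conj_torus hD, char_cv, tv]
  congr 1
  funext j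
  rw [Pi.mul_apply, ← zpow_neg]
  unfold actC
  split_ifs with h
  · rw [(Int.even_iff.2 (by omega : -wt (vOf D c) (D.simple i.val) % 2 = 0)).neg_one_zpow, Pi.mulSingle_one,
      Pi.one_apply, mul_one]
  · rw [(Int.odd_iff.2 (by omega : -wt (vOf D c) (D.simple i.val) % 2 = 1)).neg_one_zpow]
    by_cases hj : j = i
    · subst hj
      rw [Pi.mulSingle_eq_same]
      simp only [cv, vOf, Nat.testBit_xor, Nat.testBit_two_pow_self, Bool.xor_true]
      by_cases hb : c.testBit j.val <;> simp [hb]
    · rw [Pi.mulSingle_eq_of_ne hj, mul_one]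
      simp only [cv, vOf, Nat.testBit_xor, Nat.testBit_two_pow]
      rw [show decide (i.val = j.val) = false by simpa using fun h => hj (Fin.ext h.symm), Bool.xor_false]
      by_cases hb : c.testBit j.val <;> simp [hb]

theorem cj_word : ∀ w : List ℕ, (∀ i ∈ w, i < D.rank) → ∀ c : ℕ,
    Cj (tv F (vOf D c)) (tv F (vOf D (w.foldr (actC D) c))) := by
  intro w
  induction w with
  | nil => intro _ c; exact Cj.rfl' _
  | cons i w ih =>
    intro hw c
    exact (ih (fun j hj => hw j (List.mem_cons_of_mem _ hj)) c).trans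
      (cj_actC (F := F) hD hf ⟨i, hw i List.mem_cons_self⟩ _)

/-- Every involution is conjugate to one of the representatives. -/
theorem cj_reps [Fintype F] (h2 : (2 : F) ≠ 0) {d : ℕ} (K : BNSetup.KerCert D d 0) (hK : K.Valid)
    (horth : SimpleOrth D) (paths : List (List ℕ)) (a b : ℕ)
    (hp : ∀ c < 2 ^ D.rank, 0 < c → (∀ i ∈ paths.getD c [], i < D.rank) ∧
      ((paths.getD c []).foldr (actC D) c = a ∨ (paths.getD c []).foldr (actC D) c = b))
    {t : GL D.Idx F} (ht : t ∈ D.group F) (hsq : t * t = 1) (hne : t ≠ 1) :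
    Cj t (tv F (vOf D a)) ∨ Cj t (tv F (vOf D b)) := by
  classical
  obtain ⟨h, hh, hcj⟩ := exists_cj_H hD hf h2 K hK horth ht hsq hne
  obtain ⟨x, rfl⟩ := exists_torus hD hh
  obtain ⟨s1, s2⟩ := hcj.invol hsq hne
  rw [← map_mul] at s1
  have hone := torusHom_injective hD hf K hK (s1.trans (map_one _).symm)
  set v : Fin D.rank → Bool := fun i => decide (x i ≠ 1) with hv
  set c := Nat.ofBits v with hc
  have hvc : vOf D c = v := funext fun i => Nat.testBit_ofBits_lt v i.val i.2
  have hx : BNSetup.torusHom F D x = tv F (vOf D c) := by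
    rw [hvc, tv]
    congr 1
    funext i
    have h := congrFun hone i
    simp only [Pi.mul_apply, Pi.one_apply] at h
    have h' : (x i : F) * x i = 1 := by rw [← Units.val_mul, h, Units.val_one]
    rcases mul_self_eq_one_iff.1 h' with e | e
    · have e' : x i = 1 := Units.ext e
      simp [cv, hv, e']
    · have e' : x i = -1 := Units.ext e
      have : x i ≠ 1 := fun h1 => h2 (by
        have := congrArg Units.val (h1.symm.trans e')
        simp at this
        linear_combination this)
      rw [cv, hv]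
      simp [this, e']
  rw [hx] at hcj s2
  have hc0 : 0 < c := by
    rcases Nat.eq_zero_or_pos c with h0 | h0
    · refine absurd ?_ s2
      rw [h0, tv, show cv F (vOf D 0) = 1 from funext fun i => by simp [cv, vOf], map_one]
    · exact h0
  obtain ⟨hw, he⟩ := hp c (Nat.ofBits_lt_two_pow v) hc0
  have hcj' := hcj.trans (cj_word (F := F) hD hf _ hw c)
  rcases he with e | e
  · exact Or.inl (e ▸ hcj')
  · exact Or.inr (e ▸ hcj')

theorem tv_invol {c : ℕ} [Fintype F] (h2 : (2 : F) ≠ 0) {d : ℕ} (K : BNSetup.KerCert D d 0) (hK : K.Valid)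
    (i : Fin D.rank) (hi : c.testBit i.val = true) :
    tv F (vOf D c) ∈ D.group F ∧ tv F (vOf D c) * tv F (vOf D c) = 1 ∧ tv F (vOf D c) ≠ 1 := by
  refine ⟨mem_group_of_mem_N hD hf (RootBN.Data.H_le_N (torus_mem_H hD _)), ?_, fun h => ?_⟩
  · rw [tv, ← map_mul, show cv F (vOf D c) * cv F (vOf D c) = 1 from funext fun j => by
      simp only [Pi.mul_apply, Pi.one_apply, cv]; split <;> simp, map_one]
  · have e := congrFun (torusHom_injective hD hf K hK ((h : BNSetup.torusHom F D _ = 1).trans (map_one _).symm)) i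
    simp only [cv, vOf, hi, if_true, Pi.one_apply] at e
    have := congrArg Units.val e
    simp at this
    exact h2 (by linear_combination -this)

omit hD hf in
theorem card_centralizer_coe {G : Subgroup (GL D.Idx F)} (x : G) :
    Nat.card (Subgroup.centralizer ({x} : Set G)) =
      Nat.card (G ⊓ Subgroup.centralizer {(x : GL D.Idx F)} : Subgroup (GL D.Idx F)) := by
  refine Nat.card_congr (Equiv.mk (fun y => ⟨(y.1 : GL D.Idx F), y.1.2, ?_⟩)
    (fun y => ⟨⟨y.1, y.2.1⟩, ?_⟩) (fun y => rfl) (fun y => rfl))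
  · show _ ∈ Subgroup.centralizer _
    rw [Subgroup.mem_centralizer_singleton_iff]
    exact congrArg Subtype.val (Subgroup.mem_centralizer_singleton_iff.1 y.2)
  · rw [Subgroup.mem_centralizer_singleton_iff]
    exact Subtype.ext (Subgroup.mem_centralizer_singleton_iff.1 y.2.2)

omit hD hf in
theorem orderOf_coe_two {G : Subgroup (GL D.Idx F)} {x : GL D.Idx F} (hx : x ∈ G) (h1 : x * x = 1) (h2 : x ≠ 1) :
    orderOf (⟨x, hx⟩ : G) = 2 :=
  orderOf_eq_prime (by rw [sq]; exact Subtype.ext h1) fun e => h2 (congrArg Subtype.val e)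

omit hD hf in
theorem isConj_of_cj {x y : D.group F} (h : Cj (x : GL D.Idx F) y) : IsConj x y := by
  obtain ⟨g, hg, e⟩ := h
  exact isConj_iff.2 ⟨⟨g, hg⟩, Subtype.ext e⟩

omit hD hf in
theorem card_centralizer_isConj {G : Type*} [Group G] {x y : G} (h : IsConj x y) :
    Nat.card (Subgroup.centralizer ({x} : Set G)) = Nat.card (Subgroup.centralizer ({y} : Set G)) := by
  obtain ⟨g, rfl⟩ := isConj_iff.1 h
  refine Nat.card_congr (Equiv.mk (fun z => ⟨g * z.1 * g⁻¹, ?_⟩) (fun z => ⟨g⁻¹ * z.1 * g, ?_⟩)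
    (fun z => Subtype.ext (by simp [mul_assoc])) (fun z => Subtype.ext (by simp [mul_assoc])))
  · have := Subgroup.mem_centralizer_singleton_iff.1 z.2
    rw [Subgroup.mem_centralizer_singleton_iff]
    calc g * z.1 * g⁻¹ * (g * x * g⁻¹) = g * (z.1 * x) * g⁻¹ := by group
      _ = _ := by rw [this]; group
  · have := Subgroup.mem_centralizer_singleton_iff.1 z.2
    rw [Subgroup.mem_centralizer_singleton_iff]
    calc g⁻¹ * z.1 * g * x = g⁻¹ * (z.1 * (g * x * g⁻¹)) * g := by group
      _ = _ := by rw [this]; group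

omit hD hf in
theorem levelsPoly_eq (x : ℕ) : ∀ (Ls : List RootBN.Level) (ls : List (List ℕ)),
    (Ls.map fun L => L.reps.map List.length) = ls →
    RootBN.levelsPoly x Ls = (ls.map fun l => (l.map fun a => x ^ a).sum).prod := by
  intro Ls
  induction Ls with
  | nil => rintro _ rfl; rfl
  | cons L Ls ih =>
    rintro _ rfl
    rw [RootBN.levelsPoly, List.map_cons, List.map_cons, List.prod_cons, mul_comm, ih _ rfl]
    congr 1
    rw [List.map_map]
    rfl

omit hD hf in
theorem coprime_pow_sub_one {q k : ℕ} (hk : 0 < k) (hq : 0 < q) : Nat.Coprime q (q ^ k - 1) := by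
  refine Nat.coprime_of_dvd fun p hp h1 h2 => ?_
  have h3 : p ∣ q ^ k := dvd_pow h1 hk.ne'
  have h4 := Nat.dvd_sub h3 h2
  rw [Nat.sub_sub_self (Nat.one_le_pow _ _ hq)] at h4
  exact hp.one_lt.ne' (Nat.dvd_one.1 h4)

omit hD hf in
theorem pow_mul_ne {q a b x y : ℕ} (hq : 1 < q) (hab : a < b) (hx : Nat.Coprime q x) : q ^ a * x ≠ q ^ b * y := by
  intro e
  obtain ⟨k, rfl⟩ : ∃ k, b = a + (k + 1) := ⟨b - a - 1, by omega⟩
  rw [pow_add, mul_assoc] at e
  have e' := Nat.eq_of_mul_eq_mul_left (pow_pos (by omega) a) e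
  have : q ∣ x := ⟨q ^ k * y, by rw [e', pow_succ]; ring⟩
  have := Nat.eq_one_of_dvd_coprimes hx dvd_rfl this
  omega

end Cfsg.Agent.OddInvol
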