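/-
Tables for the two classes of involutions of the diagonal subgroup of type E8.
-/
import Cfsg.Agent.Lib.OddInvol.Sub

set_option autoImplicit false
set_option maxRecDepth 100000

namespace Cfsg.Agent.OddInvol.E8

open Cfsg.Agent.RootBN (Level)

/-- Words sending the coordinates to a representative. -/
def paths : List (List ℕ) := [[], [], [2, 0, 3, 1, 2, 3], [], [2, 0], [2], [2, 0], [2], [2, 0, 3, 2], [3, 1], [2, 0, 3, 1, 2], [3], [2, 0, 3], [2, 3], [2, 0, 3, 1], [2, 3, 1], [2, 0, 3, 2, 4, 3], [3, 1, 4, 3], [3, 1, 4, 3, 2, 0, 5, 4, 3, 1, 2, 3, 4, 5], [2, 3, 1, 4, 3, 2], [3, 1, 4, 3, 2, 0], [3, 1, 4, 3, 2], [2, 0, 3, 1, 4, 3], [2, 3, 1, 4, 3], [2, 0, 3, 2, 4], [3, 1, 4], [2, 0, 3, 1, 2, 4], [3, 4], [2, 0, 3, 4], [2, 3, 4], [2, 0, 3, 1, 4], [2, 3, 1, 4], [2, 0, 3, 2, 4, 3, 5,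 4], [3, 1, 4, 3, 5, 4], [3, 1, 4, 3, 2, 0, 5, 4, 3, 1, 2, 3], [2, 3, 1, 4, 3, 2, 5, 4], [3, 1, 4, 3, 2, 0, 5, 4], [3, 1, 4, 3, 2, 5, 4], [2, 0, 3, 1, 4, 3, 5, 4], [2, 3, 1, 4, 3, 5, 4], [3, 1, 4, 3, 2, 0, 5, 4, 3, 2], [2, 3, 1, 4, 3, 2, 5, 4, 3, 1], [3, 1, 4, 3, 2, 0, 5, 4, 3, 1, 2], [2, 3, 1, 4, 3, 2, 5, 4, 3], [3, 1, 4, 3, 2, 0, 5, 4, 3], [3, 1, 4, 3, 2, 5, 4, 3], [3, 1, 4, 3, 2, 0, 5, 4, 3, 1], [3, 1, 4, 3, 2, 5, 4, 3, 1], [2, 0, 3, 2, 4, 3, 5], [3, 1, 4, 3, 5], [3, 1, 4, 3, 2, 0, 5, 4, 3, 1, 2, 3, 4], [2, 3, 1, 4, 3, 2, 5], [3, 1, 4, 3, 2, 0, 5], [3, 1, 4, 3, 2, 5], [2, 0, 3, 1, 4, 3, 5], [2, 3, 1, 4, 3, 5], [2, 0, 3, 2, 4, 5], [3, 1, 4, 5], [2, 0, 3, 1, 2, 4, 5], [3, 4, 5], [2, 0, 3, 4, 5], [2, 3, 4, 5], [2, 0, 3, 1, 4, 5], [2, 3, 1, 4, 5], [2, 0, 3, 2, 4, 3, 5, 4, 6, 5],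 [3, 1, 4, 3, 5, 4, 6, 5], [3, 1, 4, 3, 2, 0, 5, 4, 3, 1, 2, 3, 6, 5], [2, 3, 1, 4, 3, 2, 5, 4, 6, 5], [3, 1, 4, 3, 2, 0, 5, 4, 6, 5], [3, 1, 4, 3, 2, 5, 4, 6, 5], [2, 0, 3, 1, 4, 3, 5, 4, 6, 5], [2, 3, 1, 4, 3, 5, 4, 6, 5], [3, 1, 4, 3, 2, 0, 5, 4, 3, 2, 6, 5], [2, 3, 1, 4, 3, 2, 5, 4, 3, 1, 6, 5], [3, 1, 4, 3, 2, 0, 5, 4, 3, 1, 2, 6, 5], [2, 3, 1, 4, 3, 2, 5, 4, 3, 6, 5], [3, 1, 4, 3, 2, 0, 5, 4, 3, 6, 5], [3, 1, 4, 3, 2, 5, 4, 3, 6, 5], [3, 1, 4, 3, 2, 0, 5, 4, 3, 1, 6, 5], [3, 1, 4, 3, 2, 5, 4, 3, 1, 6, 5], [3, 1, 4, 3, 2, 0, 5, 4, 3, 2, 6, 5, 4, 3], [2, 3, 1, 4, 3, 2, 5, 4, 3, 1, 6, 5, 4, 3], [2, 3, 1, 4, 3, 2, 5, 4, 3, 1, 6, 5, 4, 3, 2, 0, 7, 6, 5, 4, 3, 1, 2, 3, 4, 5, 6, 7], [3, 1, 4, 3, 2, 5, 4, 3, 1, 6, 5, 4, 3, 2], [2, 3, 1, 4, 3, 2, 5, 4, 3, 1, 6, 5, 4, 3, 2, 0], [2,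 3, 1, 4, 3, 2, 5, 4, 3, 1, 6, 5, 4, 3, 2], [3, 1, 4, 3, 2, 0, 5, 4, 3, 1, 6, 5, 4, 3], [3, 1, 4, 3, 2, 5, 4, 3, 1, 6, 5, 4, 3], [3, 1, 4, 3, 2, 0, 5, 4, 3, 2, 6, 5, 4], [2, 3, 1, 4, 3, 2, 5, 4, 3, 1, 6, 5, 4], [3, 1, 4, 3, 2, 0, 5, 4, 3, 1, 2, 6, 5, 4], [2, 3, 1, 4, 3, 2, 5, 4, 3, 6, 5, 4], [3, 1, 4, 3, 2, 0, 5, 4, 3, 6, 5, 4], [3, 1, 4, 3, 2, 5, 4, 3, 6, 5, 4], [3, 1, 4, 3, 2, 0, 5, 4, 3, 1, 6, 5, 4], [3, 1, 4, 3, 2, 5, 4, 3, 1, 6, 5, 4], [2, 0, 3, 2, 4, 3, 5, 4, 6], [3, 1, 4, 3, 5, 4, 6], [3, 1, 4, 3, 2, 0, 5, 4, 3, 1, 2, 3, 6], [2, 3, 1, 4, 3, 2, 5, 4, 6], [3, 1, 4, 3, 2, 0, 5, 4, 6], [3, 1, 4, 3, 2, 5, 4, 6], [2, 0, 3, 1, 4, 3, 5, 4, 6], [2, 3, 1, 4, 3, 5, 4, 6], [3, 1, 4, 3, 2, 0, 5, 4, 3, 2, 6], [2, 3, 1, 4, 3, 2, 5, 4, 3, 1, 6], [3, 1, 4, 3, 2, 0, 5, 4, 3, 1, 2, 6], [2,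 3, 1, 4, 3, 2, 5, 4, 3, 6], [3, 1, 4, 3, 2, 0, 5, 4, 3, 6], [3, 1, 4, 3, 2, 5, 4, 3, 6], [3, 1, 4, 3, 2, 0, 5, 4, 3, 1, 6], [3, 1, 4, 3, 2, 5, 4, 3, 1, 6], [2, 0, 3, 2, 4, 3, 5, 6], [3, 1, 4, 3, 5, 6], [3, 1, 4, 3, 2, 0, 5, 4, 3, 1, 2, 3, 4, 6], [2, 3, 1, 4, 3, 2, 5, 6], [3, 1, 4, 3, 2, 0, 5, 6], [3, 1, 4, 3, 2, 5, 6], [2, 0, 3, 1, 4, 3, 5, 6], [2, 3, 1, 4, 3, 5, 6], [2, 0, 3, 2, 4, 5, 6], [3, 1, 4, 5, 6], [2, 0, 3, 1, 2, 4, 5, 6], [3, 4, 5, 6], [2, 0, 3, 4, 5, 6], [2, 3, 4, 5, 6], [2, 0, 3, 1, 4, 5, 6], [2, 3, 1, 4, 5, 6], [2, 0, 3, 2, 4, 3, 5, 4, 6, 5, 7, 6], [3, 1, 4, 3, 5, 4, 6, 5, 7, 6], [3, 1, 4, 3, 2, 0, 5, 4, 3, 1, 2, 3, 6, 5, 7, 6], [2, 3, 1, 4, 3, 2, 5, 4, 6, 5, 7, 6], [3, 1, 4, 3, 2, 0, 5, 4, 6, 5, 7, 6], [3, 1, 4, 3, 2, 5, 4, 6, 5, 7, 6], [2, 0, 3, 1, 4, 3, 5, 4,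 6, 5, 7, 6], [2, 3, 1, 4, 3, 5, 4, 6, 5, 7, 6], [3, 1, 4, 3, 2, 0, 5, 4, 3, 2, 6, 5, 7, 6], [2, 3, 1, 4, 3, 2, 5, 4, 3, 1, 6, 5, 7, 6], [3, 1, 4, 3, 2, 0, 5, 4, 3, 1, 2, 6, 5, 7, 6], [2, 3, 1, 4, 3, 2, 5, 4, 3, 6, 5, 7, 6], [3, 1, 4, 3, 2, 0, 5, 4, 3, 6, 5, 7, 6], [3, 1, 4, 3, 2, 5, 4, 3, 6, 5, 7, 6], [3, 1, 4, 3, 2, 0, 5, 4, 3, 1, 6, 5, 7, 6], [3, 1, 4, 3, 2, 5, 4, 3, 1, 6, 5, 7, 6], [3, 1, 4, 3, 2, 0, 5, 4, 3, 2, 6, 5, 4, 3, 7, 6], [2, 3, 1, 4, 3, 2, 5, 4, 3, 1, 6, 5, 4, 3, 7, 6], [2, 3, 1, 4, 3, 2, 5, 4, 3, 1, 6, 5, 4, 3, 2, 0, 7, 6, 5, 4, 3, 1, 2, 3, 4, 5], [3, 1, 4, 3, 2, 5, 4, 3, 1, 6, 5, 4, 3, 2, 7, 6], [2, 3, 1, 4, 3, 2, 5, 4, 3, 1, 6, 5, 4, 3, 2, 0, 7, 6], [2, 3, 1, 4, 3, 2, 5, 4, 3, 1, 6, 5, 4, 3, 2, 7, 6], [3, 1, 4, 3, 2, 0, 5, 4, 3, 1, 6, 5, 4, 3, 7, 6], [3, 1, 4,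 3, 2, 5, 4, 3, 1, 6, 5, 4, 3, 7, 6], [3, 1, 4, 3, 2, 0, 5, 4, 3, 2, 6, 5, 4, 7, 6], [2, 3, 1, 4, 3, 2, 5, 4, 3, 1, 6, 5, 4, 7, 6], [3, 1, 4, 3, 2, 0, 5, 4, 3, 1, 2, 6, 5, 4, 7, 6], [2, 3, 1, 4, 3, 2, 5, 4, 3, 6, 5, 4, 7, 6], [3, 1, 4, 3, 2, 0, 5, 4, 3, 6, 5, 4, 7, 6], [3, 1, 4, 3, 2, 5, 4, 3, 6, 5, 4, 7, 6], [3, 1, 4, 3, 2, 0, 5, 4, 3, 1, 6, 5, 4, 7, 6], [3, 1, 4, 3, 2, 5, 4, 3, 1, 6, 5, 4, 7, 6], [3, 1, 4, 3, 2, 0, 5, 4, 3, 2, 6, 5, 4, 3, 7, 6, 5, 4], [2, 3, 1, 4, 3, 2, 5, 4, 3, 1, 6, 5, 4, 3, 7, 6, 5, 4], [2, 3, 1, 4, 3, 2, 5, 4, 3, 1, 6, 5, 4, 3, 2, 0, 7, 6, 5, 4, 3, 1, 2, 3], [3, 1, 4, 3, 2, 5, 4, 3, 1, 6, 5, 4, 3, 2, 7, 6, 5, 4], [2, 3, 1, 4, 3, 2, 5, 4, 3, 1, 6, 5, 4, 3, 2, 0, 7, 6, 5, 4], [2, 3, 1, 4, 3, 2, 5, 4, 3, 1, 6, 5, 4, 3, 2, 7, 6, 5, 4], [3, 1, 4, 3, 2, 0, 5,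 4, 3, 1, 6, 5, 4, 3, 7, 6, 5, 4], [3, 1, 4, 3, 2, 5, 4, 3, 1, 6, 5, 4, 3, 7, 6, 5, 4], [2, 3, 1, 4, 3, 2, 5, 4, 3, 1, 6, 5, 4, 3, 2, 0, 7, 6, 5, 4, 3, 2], [3, 1, 4, 3, 2, 5, 4, 3, 1, 6, 5, 4, 3, 2, 7, 6, 5, 4, 3, 1], [2, 3, 1, 4, 3, 2, 5, 4, 3, 1, 6, 5, 4, 3, 2, 0, 7, 6, 5, 4, 3, 1, 2], [3, 1, 4, 3, 2, 5, 4, 3, 1, 6, 5, 4, 3, 2, 7, 6, 5, 4, 3], [2, 3, 1, 4, 3, 2, 5, 4, 3, 1, 6, 5, 4, 3, 2, 0, 7, 6, 5, 4, 3], [2, 3, 1, 4, 3, 2, 5, 4, 3, 1, 6, 5, 4, 3, 2, 7, 6, 5, 4, 3], [2, 3, 1, 4, 3, 2, 5, 4, 3, 1, 6, 5, 4, 3, 2, 0, 7, 6, 5, 4, 3, 1], [2, 3, 1, 4, 3, 2, 5, 4, 3, 1, 6, 5, 4, 3, 2, 7, 6, 5, 4, 3, 1], [3, 1, 4, 3, 2, 0, 5, 4, 3, 2, 6, 5, 4, 3, 7, 6, 5], [2, 3, 1, 4, 3, 2, 5, 4, 3, 1, 6, 5, 4, 3, 7, 6, 5], [2, 3, 1, 4, 3, 2, 5, 4, 3, 1, 6, 5, 4, 3, 2, 0, 7, 6, 5, 4, 3, 1, 2, 3,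 4], [3, 1, 4, 3, 2, 5, 4, 3, 1, 6, 5, 4, 3, 2, 7, 6, 5], [2, 3, 1, 4, 3, 2, 5, 4, 3, 1, 6, 5, 4, 3, 2, 0, 7, 6, 5], [2, 3, 1, 4, 3, 2, 5, 4, 3, 1, 6, 5, 4, 3, 2, 7, 6, 5], [3, 1, 4, 3, 2, 0, 5, 4, 3, 1, 6, 5, 4, 3, 7, 6, 5], [3, 1, 4, 3, 2, 5, 4, 3, 1, 6, 5, 4, 3, 7, 6, 5], [3, 1, 4, 3, 2, 0, 5, 4, 3, 2, 6, 5, 4, 7, 6, 5], [2, 3, 1, 4, 3, 2, 5, 4, 3, 1, 6, 5, 4, 7, 6, 5], [3, 1, 4, 3, 2, 0, 5, 4, 3, 1, 2, 6, 5, 4, 7, 6, 5], [2, 3, 1, 4, 3, 2, 5, 4, 3, 6, 5, 4, 7, 6, 5], [3, 1, 4, 3, 2, 0, 5, 4, 3, 6, 5, 4, 7, 6, 5], [3, 1, 4, 3, 2, 5, 4, 3, 6, 5, 4, 7, 6, 5], [3, 1, 4, 3, 2, 0, 5, 4, 3, 1, 6, 5, 4, 7, 6, 5], [3, 1, 4, 3, 2, 5, 4, 3, 1, 6, 5, 4, 7, 6, 5], [2, 0, 3, 2, 4, 3, 5, 4, 6, 5, 7], [3, 1, 4, 3, 5, 4, 6, 5, 7], [3, 1, 4, 3, 2, 0, 5, 4, 3, 1, 2, 3, 6, 5, 7], [2, 3, 1, 4,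 3, 2, 5, 4, 6, 5, 7], [3, 1, 4, 3, 2, 0, 5, 4, 6, 5, 7], [3, 1, 4, 3, 2, 5, 4, 6, 5, 7], [2, 0, 3, 1, 4, 3, 5, 4, 6, 5, 7], [2, 3, 1, 4, 3, 5, 4, 6, 5, 7], [3, 1, 4, 3, 2, 0, 5, 4, 3, 2, 6, 5, 7], [2, 3, 1, 4, 3, 2, 5, 4, 3, 1, 6, 5, 7], [3, 1, 4, 3, 2, 0, 5, 4, 3, 1, 2, 6, 5, 7], [2, 3, 1, 4, 3, 2, 5, 4, 3, 6, 5, 7], [3, 1, 4, 3, 2, 0, 5, 4, 3, 6, 5, 7], [3, 1, 4, 3, 2, 5, 4, 3, 6, 5, 7], [3, 1, 4, 3, 2, 0, 5, 4, 3, 1, 6, 5, 7], [3, 1, 4, 3, 2, 5, 4, 3, 1, 6, 5, 7], [3, 1, 4, 3, 2, 0, 5, 4, 3, 2, 6, 5, 4, 3, 7], [2, 3, 1, 4, 3, 2, 5, 4, 3, 1, 6, 5, 4, 3, 7], [2, 3, 1, 4, 3, 2, 5, 4, 3, 1, 6, 5, 4, 3, 2, 0, 7, 6, 5, 4, 3, 1, 2, 3, 4, 5, 6], [3, 1, 4, 3, 2, 5, 4, 3, 1, 6, 5, 4, 3, 2, 7], [2, 3, 1, 4, 3, 2, 5, 4, 3, 1, 6, 5, 4, 3, 2, 0, 7], [2, 3, 1, 4, 3, 2, 5, 4, 3, 1, 6, 5,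 4, 3, 2, 7], [3, 1, 4, 3, 2, 0, 5, 4, 3, 1, 6, 5, 4, 3, 7], [3, 1, 4, 3, 2, 5, 4, 3, 1, 6, 5, 4, 3, 7], [3, 1, 4, 3, 2, 0, 5, 4, 3, 2, 6, 5, 4, 7], [2, 3, 1, 4, 3, 2, 5, 4, 3, 1, 6, 5, 4, 7], [3, 1, 4, 3, 2, 0, 5, 4, 3, 1, 2, 6, 5, 4, 7], [2, 3, 1, 4, 3, 2, 5, 4, 3, 6, 5, 4, 7], [3, 1, 4, 3, 2, 0, 5, 4, 3, 6, 5, 4, 7], [3, 1, 4, 3, 2, 5, 4, 3, 6, 5, 4, 7], [3, 1, 4, 3, 2, 0, 5, 4, 3, 1, 6, 5, 4, 7], [3, 1, 4, 3, 2, 5, 4, 3, 1, 6, 5, 4, 7], [2, 0, 3, 2, 4, 3, 5, 4, 6, 7], [3, 1, 4, 3, 5, 4, 6, 7], [3, 1, 4, 3, 2, 0, 5, 4, 3, 1, 2, 3, 6, 7], [2, 3, 1, 4, 3, 2, 5, 4, 6, 7], [3, 1, 4, 3, 2, 0, 5, 4, 6, 7], [3, 1, 4, 3, 2, 5, 4, 6, 7], [2, 0, 3, 1, 4, 3, 5, 4, 6, 7], [2, 3, 1, 4, 3, 5, 4, 6, 7], [3, 1, 4, 3, 2, 0, 5, 4, 3, 2, 6, 7], [2, 3, 1, 4, 3, 2, 5, 4, 3, 1, 6, 7], [3, 1, 4,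 3, 2, 0, 5, 4, 3, 1, 2, 6, 7], [2, 3, 1, 4, 3, 2, 5, 4, 3, 6, 7], [3, 1, 4, 3, 2, 0, 5, 4, 3, 6, 7], [3, 1, 4, 3, 2, 5, 4, 3, 6, 7], [3, 1, 4, 3, 2, 0, 5, 4, 3, 1, 6, 7], [3, 1, 4, 3, 2, 5, 4, 3, 1, 6, 7], [2, 0, 3, 2, 4, 3, 5, 6, 7], [3, 1, 4, 3, 5, 6, 7], [3, 1, 4, 3, 2, 0, 5, 4, 3, 1, 2, 3, 4, 6, 7], [2, 3, 1, 4, 3, 2, 5, 6, 7], [3, 1, 4, 3, 2, 0, 5, 6, 7], [3, 1, 4, 3, 2, 5, 6, 7], [2, 0, 3, 1, 4, 3, 5, 6, 7], [2, 3, 1, 4, 3, 5, 6, 7], [2, 0, 3, 2, 4, 5, 6, 7], [3, 1, 4, 5, 6, 7], [2, 0, 3, 1, 2, 4, 5, 6, 7], [3, 4, 5, 6, 7], [2, 0, 3, 4, 5, 6, 7], [2, 3, 4, 5, 6, 7], [2, 0, 3, 1, 4, 5, 6, 7], [2, 3, 1, 4, 5, 6, 7]]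

/-- Coordinates of the representative. -/
def codeA : ℕ := 1

/-- The centralized sub-root system. -/
def certA : SubCert where
  E := [0, 1, 2, 3, 4, 5, 7, 21, 22, 23, 24, 25, 26, 27, 28, 29, 30, 31, 32, 33, 34, 35, 36, 37, 38, 39, 40, 41, 42, 43, 44, 45, 46, 47, 48, 49, 50, 51, 52, 53, 54, 55, 77, 93, 94, 95, 96, 97, 98, 105, 106, 107, 108, 109, 110, 111, 112, 113, 114, 115, 116, 117, 118, 119, 120, 121, 122, 123, 124, 125, 126, 127, 128, 129, 130, 131, 132, 133, 134, 141, 142, 143, 144, 145, 146, 162, 184, 185, 186, 187, 188, 189, 190, 191, 192, 193, 194, 195, 196, 197, 198, 199, 200, 201, 202, 203, 204, 205, 206, 207, 208, 209, 210, 211, 212, 213, 214, 215, 216, 217, 218, 232, 234, 235, 236, 237, 238, 239]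
  S := [64, 65, 67, 86, 70, 74, 79, 85]
  tabs := [88829922455940436151409772276038368613818016096622592810415728518360724219519624206113046218916760853915001405981501713941846219656971413356868499900697664810035468217961955751053482487701353335398564172658631009728683472444986847846329659709164279840055526280569686749534980858043839788152817155938965389313, 89526670927763306476856338121961704674860036951641515453856736564383770293645837590529657011590015146648414560092372789206245566178105385716670310532576971662903114738845715754695594861985663417383670320061179845852584185904744124308048363104621571140808788162619980881009076468121570265631987690435531309568, 89529392601481364564027343535784060792355046618392710981722108805983929062842182984347558714506739890224367821771878409966715668247980264329081909291451322947311829076976480068016165795192939283331914045095785976838555926680078805632619946337664786708778216054363834823320961281113573180241169751215958065408,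 89529403106629904073076276950902557029421053759905290989431224397116548669643704971469552604823929808341102664505383636503318371766425940869427954214536781979365225747999658903614813673251653453288931740844998089628235814827841802188960829207737691584369772372822280215975302202105279446123039653838004027648, 89529403233019325718761175370541674536278146865564981522436279409221708943018349401943829153807120876475545947129756493021345367986172743320488001202169467417715580941731448389123828668766544624420320834959495154849316145162841890913433530154222561875173296761665884116382940335947154061973458647698846646528, 89529403274548770889114003919334675804579736357212512788524870815557477517967187387213382099577045117320572327703186257259596430376886982383719639067046466554169352842199950974382308616652137520144577868059839566007158425163476514533720210479297755073998972036969665869631466667043376427907513171490478620928,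 89529403274710995284426240534632763906469601735733725806264271253720217379215072988761509296943954621086270406476434375226315206898314328776723867983168393767637130490863458176173818110753537347414715180412413167881037192837089856705018920448468040494603125588088700070019291061307538828860444923650019295488, 89529403274711631458524904726661710070718287560273211920688346762199384441143301654588717102788860384374123479419310484427957739372865825430537854374102726081854298158012568023087392450415769591534121124069477060504446494529880612615922177345269872573249505555738298717299827749903949976834923068343273521408]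
  W := [([], 7), ([], 6), ([], 5), ([2, 3, 4, 1, 3, 2], 0), ([], 4), ([], 3), ([], 1), ([], 0)]
  R := [([0, 1, 2, 4, 5, 6, 3, 2, 4, 5, 1, 2, 4, 3, 2, 1, 0], 0), ([1, 2, 4, 5, 6, 3, 2, 4, 5, 1, 2, 4, 3, 2, 1, 0], 0), ([2, 4, 5, 6, 3, 2, 4, 5, 1, 2, 4, 3, 2, 1, 0], 0), ([4, 5, 6, 3, 2, 4, 5, 1, 2, 4, 3, 2, 1, 0], 0), ([5, 6, 3, 2, 4, 5, 1, 2, 4, 3, 2, 1, 0], 0), ([6, 3, 2, 4, 5, 1, 2, 4, 3, 2, 1, 0], 0), ([3, 2, 4, 5, 1, 2, 4, 3, 2, 1, 0], 0), ([4, 5, 6, 2, 4, 5, 1, 2, 4, 3, 2, 1, 0], 0), ([5, 6, 2, 4, 5, 1, 2, 4, 3, 2, 1, 0], 0), ([5, 6, 4, 5, 1, 2, 4, 3, 2, 1, 0], 0), ([5, 6, 4, 5, 2, 4, 3, 2, 1, 0], 0), ([5, 6, 4, 5, 2, 4, 3, 2, 1], 1), ([6, 2, 4, 5, 1, 2, 4, 3, 2, 1, 0], 0), ([6, 4, 5, 1, 2, 4, 3, 2, 1, 0], 0), ([6, 4, 5, 2, 4, 3, 2, 1, 0], 0), ([6, 4, 5, 2, 4, 3, 2, 1],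 1), ([6, 5, 1, 2, 4, 3, 2, 1, 0], 0), ([6, 5, 2, 4, 3, 2, 1, 0], 0), ([6, 5, 2, 4, 3, 2, 1], 1), ([6, 5, 4, 3, 2, 1, 0], 0), ([6, 5, 4, 3, 2, 1], 1), ([6, 5, 4, 3, 2], 2), ([2, 4, 5, 1, 2, 4, 3, 2, 1, 0], 0), ([4, 5, 1, 2, 4, 3, 2, 1, 0], 0), ([4, 5, 2, 4, 3, 2, 1, 0], 0), ([4, 5, 2, 4, 3, 2, 1], 1), ([5, 1, 2, 4, 3, 2, 1, 0], 0), ([5, 2, 4, 3, 2, 1, 0], 0), ([5, 2, 4, 3, 2, 1], 1), ([5, 4, 3, 2, 1, 0], 0), ([5, 4, 3, 2, 1], 1), ([5, 4, 3, 2], 2), ([1, 2, 4, 3, 2, 1, 0], 0), ([2, 4, 3, 2, 1, 0], 0), ([2, 4, 3, 2, 1], 1), ([4, 3, 2, 1, 0], 0), ([4, 3, 2, 1], 1), ([4, 3, 2], 2), ([3, 2, 1, 0], 0), ([3, 2, 1], 1), ([3, 2], 2), ([3], 3), ([7], 7), ([6, 5, 4, 2, 1, 0], 0), ([6, 5, 4, 2, 1], 1), ([6, 5, 4, 2], 2), ([6, 5, 4], 4), ([6, 5], 5), ([6], 6), ([5, 4, 2, 1, 0], 0), ([5, 4,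 2, 1], 1), ([5, 4, 2], 2), ([5, 4], 4), ([5], 5), ([4, 2, 1, 0], 0), ([4, 2, 1], 1), ([4, 2], 2), ([4], 4), ([2, 1, 0], 0), ([2, 1], 1), ([2], 2), ([1, 0], 0), ([1], 1), ([0], 0), ([], 0), ([], 1), ([1], 0), ([], 2), ([2], 1), ([2, 1], 0), ([], 4), ([4], 2), ([4, 2], 1), ([4, 2, 1], 0), ([], 5), ([5], 4), ([5, 4], 2), ([5, 4, 2], 1), ([5, 4, 2, 1], 0), ([], 6), ([6], 5), ([6, 5], 4), ([6, 5, 4], 2), ([6, 5, 4, 2], 1), ([6, 5, 4, 2, 1], 0), ([], 7), ([], 3), ([3], 2), ([3, 2], 1), ([3, 2, 1], 0), ([4, 3], 2), ([4, 3, 2], 1), ([4, 3, 2, 1], 0), ([2, 4, 3, 2], 1), ([2, 4, 3, 2, 1], 0), ([1, 2, 4, 3, 2, 1], 0), ([5, 4, 3], 2), ([5, 4, 3, 2], 1), ([5, 4, 3, 2, 1], 0), ([5, 2, 4, 3, 2], 1), ([5, 2, 4, 3, 2, 1], 0), ([5, 1, 2, 4, 3, 2, 1], 0), ([4, 5, 2, 4, 3, 2], 1), ([4, 5, 2, 4,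 3, 2, 1], 0), ([4, 5, 1, 2, 4, 3, 2, 1], 0), ([2, 4, 5, 1, 2, 4, 3, 2, 1], 0), ([6, 5, 4, 3], 2), ([6, 5, 4, 3, 2], 1), ([6, 5, 4, 3, 2, 1], 0), ([6, 5, 2, 4, 3, 2], 1), ([6, 5, 2, 4, 3, 2, 1], 0), ([6, 5, 1, 2, 4, 3, 2, 1], 0), ([6, 4, 5, 2, 4, 3, 2], 1), ([6, 4, 5, 2, 4, 3, 2, 1], 0), ([6, 4, 5, 1, 2, 4, 3, 2, 1], 0), ([6, 2, 4, 5, 1, 2, 4, 3, 2, 1], 0), ([5, 6, 4, 5, 2, 4, 3, 2], 1), ([5, 6, 4, 5, 2, 4, 3, 2, 1], 0), ([5, 6, 4, 5, 1, 2, 4, 3, 2, 1], 0), ([5, 6, 2, 4, 5, 1, 2, 4, 3, 2, 1], 0), ([4, 5, 6, 2, 4, 5, 1, 2, 4, 3, 2, 1], 0), ([3, 2, 4, 5, 1, 2, 4, 3, 2, 1], 0), ([6, 3, 2, 4, 5, 1, 2, 4, 3, 2, 1], 0), ([5, 6, 3, 2, 4, 5, 1, 2, 4, 3, 2, 1], 0), ([4, 5, 6, 3, 2, 4, 5, 1, 2, 4, 3, 2, 1], 0), ([2, 4, 5, 6, 3, 2, 4, 5, 1, 2, 4, 3, 2, 1], 0), ([1, 2, 4, 5, 6, 3, 2, 4,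 5, 1, 2, 4, 3, 2, 1], 0), ([0, 1, 2, 4, 5, 6, 3, 2, 4, 5, 1, 2, 4, 3, 2, 1], 0)]

/-- Level 1. -/
def levelA1 : Level where
  reps := [[], [0]]
  edges := [[(1, [])], [(0, [])]]
  phi := 0

/-- Level 2. -/
def levelA2 : Level where
  reps := [[], [1], [0, 1]]
  edges := [[(0, [0]), (1, [])], [(2, []), (0, [])], [(1, []), (2, [0])]]
  phi := 27670116110564327424

/-- Level 3. -/
def levelA3 : Level where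
  reps := [[], [2], [1, 2], [0, 1, 2]]
  edges := [[(0, [0]), (0, [1]), (1, [])], [(1, [0]), (2, []), (0, [])], [(3, []), (1, []), (2, [1])], [(2, []), (3, [0]), (3, [1])]]
  phi := 145268109580462718976

/-- Level 4. -/
def levelA4 : Level where
  reps := [[], [3], [2, 3], [1, 2, 3], [0, 1, 2, 3]]
  edges := [[(0, [0]), (0, [1]), (0, [2]), (1, [])], [(1, [0]), (1, [1]), (2, []), (0, [])], [(2, [0]), (3, []), (1, []), (2, [2])], [(4, []), (2, []), (3, [1]), (3, [2])], [(3, []), (4, [0]), (4, [1]), (4, [2])]]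
  phi := 1180303390341259591680

/-- Level 5. -/
def levelA5 : Level where
  reps := [[], [4], [2, 4], [1, 2, 4], [3, 2, 4], [0, 1, 2, 4], [3, 1, 2, 4], [3, 0, 1, 2, 4], [2, 3, 1, 2, 4], [2, 3, 0, 1, 2, 4], [4, 2, 3, 1, 2, 4], [1, 2, 3, 0, 1, 2, 4], [4, 2, 3, 0, 1, 2, 4], [4, 1, 2, 3, 0, 1, 2, 4], [2, 4, 1, 2, 3, 0, 1, 2, 4], [3, 2, 4, 1, 2, 3, 0, 1, 2, 4]]
  edges := [[(0, [0]), (0, [1]), (0, [2]), (0, [3]), (1, [])], [(1, [0]), (1, [1]), (2, []), (1, [3]), (0, [])], [(2, [0]), (3, []), (1, []), (4, []), (2, [2])], [(5, []), (2, []), (3, [1]), (6, []), (3, [2])], [(4, [0]), (6, []), (4, [3]), (2, []), (4, [2])], [(3, []), (5, [0]), (5, [1]), (7, []), (5, [2])], [(7, []), (4, []), (8, []), (3, []), (6, [2])], [(6, []), (7, [0]), (9, []), (5, []), (7, [2])], [(9, []), (8, [3]),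 (6, []), (8, [1]), (10, [])], [(8, []), (11, []), (7, []), (9, [1]), (12, [])], [(12, []), (10, [3]), (10, [2]), (10, [1]), (8, [])], [(11, [3]), (9, []), (11, [0]), (11, [1]), (13, [])], [(10, []), (13, []), (12, [2]), (12, [1]), (9, [])], [(13, [3]), (12, []), (14, []), (13, [1]), (11, [])], [(14, [3]), (14, [2]), (13, []), (15, []), (14, [0])], [(15, [3]), (15, [2]), (15, [1]), (14, []), (15, [0])]]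
  phi := 1160569967133438472146124800

/-- Level 6. -/
def levelA6 : Level where
  reps := [[], [5], [4, 5], [2, 4, 5], [1, 2, 4, 5], [3, 2, 4, 5], [0, 1, 2, 4, 5], [3, 1, 2, 4, 5], [3, 0, 1, 2, 4, 5], [2, 3, 1, 2, 4, 5], [2, 3, 0, 1, 2, 4, 5], [4, 2, 3, 1, 2, 4, 5], [1, 2, 3, 0, 1, 2, 4, 5], [4, 2, 3, 0, 1, 2, 4, 5], [5, 4, 2, 3, 1, 2, 4, 5], [4, 1, 2, 3, 0, 1, 2, 4, 5], [5, 4, 2, 3, 0, 1, 2, 4, 5], [2, 4, 1, 2, 3, 0, 1, 2, 4, 5], [5, 4, 1, 2, 3, 0, 1, 2, 4, 5], [3, 2, 4, 1, 2, 3, 0, 1, 2, 4, 5], [5, 2, 4, 1, 2, 3, 0, 1, 2, 4, 5], [5, 3, 2, 4, 1, 2, 3, 0, 1, 2, 4, 5], [4, 5, 2, 4, 1, 2, 3, 0, 1, 2, 4, 5], [4, 5, 3, 2, 4, 1, 2, 3, 0, 1, 2, 4, 5], [2, 4, 5, 3, 2, 4, 1, 2, 3, 0, 1, 2, 4, 5], [1, 2, 4, 5, 3, 2, 4, 1, 2, 3, 0, 1, 2, 4, 5], [0, 1, 2, 4, 5, 3, 2, 4, 1, 2, 3, 0, 1,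 2, 4, 5]]
  edges := [[(0, [0]), (0, [1]), (0, [2]), (0, [3]), (0, [4]), (1, [])], [(1, [0]), (1, [1]), (1, [2]), (1, [3]), (2, []), (0, [])], [(2, [0]), (2, [1]), (3, []), (2, [3]), (1, []), (2, [4])], [(3, [0]), (4, []), (2, []), (5, []), (3, [2]), (3, [4])], [(6, []), (3, []), (4, [1]), (7, []), (4, [2]), (4, [4])], [(5, [0]), (7, []), (5, [3]), (3, []), (5, [2]), (5, [4])], [(4, []), (6, [0]), (6, [1]), (8, []), (6, [2]), (6, [4])], [(8, []), (5, []), (9, []), (4, []), (7, [2]), (7, [4])], [(7, []), (8, [0]), (10, []), (6, []), (8, [2]), (8, [4])], [(10, []), (9, [3]), (7, []), (9, [1]), (11, []), (9, [4])], [(9, []), (12, []), (8, []), (10, [1]), (13, []), (10, [4])], [(13, []), (11, [3]), (11, [2]), (11, [1]), (9, []), (14, [])], [(12, [3]), (10, []), (12, [0]), (12, [1]),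 (15, []), (12, [4])], [(11, []), (15, []), (13, [2]), (13, [1]), (10, []), (16, [])], [(16, []), (14, [3]), (14, [2]), (14, [1]), (14, [4]), (11, [])], [(15, [3]), (13, []), (17, []), (15, [1]), (12, []), (18, [])], [(14, []), (18, []), (16, [2]), (16, [1]), (16, [4]), (13, [])], [(17, [3]), (17, [2]), (15, []), (19, []), (17, [0]), (20, [])], [(18, [3]), (16, []), (20, []), (18, [1]), (18, [4]), (15, [])], [(19, [3]), (19, [2]), (19, [1]), (17, []), (19, [0]), (21, [])], [(20, [3]), (20, [2]), (18, []), (21, []), (22, []), (17, [])], [(21, [3]), (21, [2]), (21, [1]), (20, []), (23, []), (19, [])], [(22, [3]), (22, [2]), (22, [4]), (23, []), (20, []), (22, [0])], [(23, [3]), (23, [2]), (24, []), (22, []), (21, []), (23, [0])], [(24, [3]), (25, []), (23, []), (24, [4]), (24,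 [1]), (24, [0])], [(26, []), (24, []), (25, [2]), (25, [4]), (25, [1]), (25, [0])], [(25, []), (26, [3]), (26, [2]), (26, [4]), (26, [1]), (26, [0])]]
  phi := 79150810151256922800185671680

/-- Level 7. -/
def levelA7 : Level where
  reps := [[], [6], [5, 6], [4, 5, 6], [2, 4, 5, 6], [1, 2, 4, 5, 6], [3, 2, 4, 5, 6], [0, 1, 2, 4, 5, 6], [3, 1, 2, 4, 5, 6], [3, 0, 1, 2, 4, 5, 6], [2, 3, 1, 2, 4, 5, 6], [2, 3, 0, 1, 2, 4, 5, 6], [4, 2, 3, 1, 2, 4, 5, 6], [1, 2, 3, 0, 1, 2, 4, 5, 6], [4, 2, 3, 0, 1, 2, 4, 5, 6], [5, 4, 2, 3, 1, 2, 4, 5, 6], [4, 1, 2, 3, 0, 1, 2, 4, 5, 6], [5, 4, 2, 3, 0, 1, 2, 4, 5, 6], [6, 5, 4, 2, 3, 1, 2, 4, 5, 6], [2, 4, 1, 2, 3, 0, 1, 2, 4, 5, 6], [5, 4, 1, 2, 3, 0, 1, 2, 4, 5, 6], [6, 5, 4, 2, 3, 0, 1, 2, 4, 5, 6], [3, 2, 4, 1, 2, 3, 0, 1, 2, 4, 5, 6], [5,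 2, 4, 1, 2, 3, 0, 1, 2, 4, 5, 6], [6, 5, 4, 1, 2, 3, 0, 1, 2, 4, 5, 6], [5, 3, 2, 4, 1, 2, 3, 0, 1, 2, 4, 5, 6], [4, 5, 2, 4, 1, 2, 3, 0, 1, 2, 4, 5, 6], [6, 5, 2, 4, 1, 2, 3, 0, 1, 2, 4, 5, 6], [4, 5, 3, 2, 4, 1, 2, 3, 0, 1, 2, 4, 5, 6], [6, 5, 3, 2, 4, 1, 2, 3, 0, 1, 2, 4, 5, 6], [6, 4, 5, 2, 4, 1, 2, 3, 0, 1, 2, 4, 5, 6], [2, 4, 5, 3, 2, 4, 1, 2, 3, 0, 1, 2, 4, 5, 6], [6, 4, 5, 3, 2, 4, 1, 2, 3, 0, 1, 2, 4, 5, 6], [5, 6, 4, 5, 2, 4, 1, 2, 3, 0, 1, 2, 4, 5, 6], [1, 2, 4, 5, 3, 2, 4, 1, 2, 3, 0, 1, 2, 4, 5, 6], [6, 2, 4, 5, 3, 2, 4, 1, 2, 3, 0, 1, 2, 4, 5, 6], [5, 6, 4, 5, 3, 2, 4, 1, 2, 3, 0, 1, 2, 4, 5, 6], [0, 1, 2, 4, 5, 3, 2, 4, 1, 2, 3, 0, 1, 2, 4, 5, 6], [6, 1, 2, 4, 5, 3, 2, 4, 1, 2, 3, 0, 1, 2, 4, 5, 6], [5, 6, 2, 4, 5, 3, 2, 4, 1, 2, 3, 0, 1, 2, 4, 5, 6], [6, 0, 1,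 2, 4, 5, 3, 2, 4, 1, 2, 3, 0, 1, 2, 4, 5, 6], [5, 6, 1, 2, 4, 5, 3, 2, 4, 1, 2, 3, 0, 1, 2, 4, 5, 6], [4, 5, 6, 2, 4, 5, 3, 2, 4, 1, 2, 3, 0, 1, 2, 4, 5, 6], [5, 6, 0, 1, 2, 4, 5, 3, 2, 4, 1, 2, 3, 0, 1, 2, 4, 5, 6], [4, 5, 6, 1, 2, 4, 5, 3, 2, 4, 1, 2, 3, 0, 1, 2, 4, 5, 6], [4, 5, 6, 0, 1, 2, 4, 5, 3, 2, 4, 1, 2, 3, 0, 1, 2, 4, 5, 6], [2, 4, 5, 6, 1, 2, 4, 5, 3, 2, 4, 1, 2, 3, 0, 1, 2, 4, 5, 6], [2, 4, 5, 6, 0, 1, 2, 4, 5, 3, 2, 4, 1, 2, 3, 0, 1, 2, 4, 5, 6], [3, 2, 4, 5, 6, 1, 2, 4, 5, 3, 2, 4, 1, 2, 3, 0, 1, 2, 4, 5, 6], [1, 2, 4, 5, 6, 0, 1, 2, 4, 5, 3, 2, 4, 1, 2, 3, 0, 1, 2, 4, 5, 6], [3, 2, 4, 5, 6, 0, 1, 2, 4, 5, 3, 2, 4, 1, 2, 3, 0, 1, 2, 4, 5, 6], [3, 1, 2, 4, 5, 6, 0, 1, 2, 4, 5, 3, 2, 4, 1, 2, 3, 0, 1, 2, 4, 5, 6], [2, 3, 1, 2, 4, 5, 6, 0, 1, 2, 4, 5, 3, 2, 4, 1,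 2, 3, 0, 1, 2, 4, 5, 6], [4, 2, 3, 1, 2, 4, 5, 6, 0, 1, 2, 4, 5, 3, 2, 4, 1, 2, 3, 0, 1, 2, 4, 5, 6], [5, 4, 2, 3, 1, 2, 4, 5, 6, 0, 1, 2, 4, 5, 3, 2, 4, 1, 2, 3, 0, 1, 2, 4, 5, 6], [6, 5, 4, 2, 3, 1, 2, 4, 5, 6, 0, 1, 2, 4, 5, 3, 2, 4, 1, 2, 3, 0, 1, 2, 4, 5, 6]]
  edges := [[(0, [0]), (0, [1]), (0, [2]), (0, [3]), (0, [4]), (0, [5]), (1, [])], [(1, [0]), (1, [1]), (1, [2]), (1, [3]), (1, [4]), (2, []), (0, [])], [(2, [0]), (2, [1]), (2, [2]), (2, [3]), (3, []), (1, []), (2, [5])], [(3, [0]), (3, [1]), (4, []), (3, [3]), (2, []), (3, [4]), (3, [5])], [(4, [0]), (5, []), (3, []), (6, []), (4, [2]), (4, [4]), (4, [5])], [(7, []), (4, []), (5, [1]), (8, []), (5, [2]), (5, [4]), (5, [5])], [(6, [0]), (8, []), (6, [3]), (4, []), (6, [2]), (6, [4]), (6, [5])], [(5, []), (7, [0]),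 (7, [1]), (9, []), (7, [2]), (7, [4]), (7, [5])], [(9, []), (6, []), (10, []), (5, []), (8, [2]), (8, [4]), (8, [5])], [(8, []), (9, [0]), (11, []), (7, []), (9, [2]), (9, [4]), (9, [5])], [(11, []), (10, [3]), (8, []), (10, [1]), (12, []), (10, [4]), (10, [5])], [(10, []), (13, []), (9, []), (11, [1]), (14, []), (11, [4]), (11, [5])], [(14, []), (12, [3]), (12, [2]), (12, [1]), (10, []), (15, []), (12, [5])], [(13, [3]), (11, []), (13, [0]), (13, [1]), (16, []), (13, [4]), (13, [5])], [(12, []), (16, []), (14, [2]), (14, [1]), (11, []), (17, []), (14, [5])], [(17, []), (15, [3]), (15, [2]), (15, [1]), (15, [4]), (12, []), (18, [])], [(16, [3]), (14, []), (19, []), (16, [1]), (13, []), (20, []), (16, [5])], [(15, []), (20, []), (17, [2]), (17, [1]), (17, [4]), (14, []), (21,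 [])], [(21, []), (18, [3]), (18, [2]), (18, [1]), (18, [4]), (18, [5]), (15, [])], [(19, [3]), (19, [2]), (16, []), (22, []), (19, [0]), (23, []), (19, [5])], [(20, [3]), (17, []), (23, []), (20, [1]), (20, [4]), (16, []), (24, [])], [(18, []), (24, []), (21, [2]), (21, [1]), (21, [4]), (21, [5]), (17, [])], [(22, [3]), (22, [2]), (22, [1]), (19, []), (22, [0]), (25, []), (22, [5])], [(23, [3]), (23, [2]), (20, []), (25, []), (26, []), (19, []), (27, [])], [(24, [3]), (21, []), (27, []), (24, [1]), (24, [4]), (24, [5]), (20, [])], [(25, [3]), (25, [2]), (25, [1]), (23, []), (28, []), (22, []), (29, [])], [(26, [3]), (26, [2]), (26, [4]), (28, []), (23, []), (26, [0]), (30, [])], [(27, [3]), (27, [2]), (24, []), (29, []), (30, []), (27, [5]), (23, [])], [(28, [3]), (28, [2]),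 (31, []), (26, []), (25, []), (28, [0]), (32, [])], [(29, [3]), (29, [2]), (29, [1]), (27, []), (32, []), (29, [5]), (25, [])], [(30, [3]), (30, [2]), (30, [4]), (32, []), (27, []), (33, []), (26, [])], [(31, [3]), (34, []), (28, []), (31, [4]), (31, [1]), (31, [0]), (35, [])], [(32, [3]), (32, [2]), (35, []), (30, []), (29, []), (36, []), (28, [])], [(33, [3]), (33, [2]), (33, [4]), (36, []), (33, [5]), (30, []), (33, [0])], [(37, []), (31, []), (34, [2]), (34, [4]), (34, [1]), (34, [0]), (38, [])], [(35, [3]), (38, []), (32, []), (35, [4]), (35, [1]), (39, []), (31, [])], [(36, [3]), (36, [2]), (39, []), (33, []), (36, [5]), (32, []), (36, [0])], [(34, []), (37, [3]), (37, [2]), (37, [4]), (37, [1]), (37, [0]), (40, [])], [(40, []), (35, []), (38, [2]), (38, [4]), (38, [1]),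 (41, []), (34, [])], [(39, [3]), (41, []), (36, []), (39, [4]), (42, []), (35, []), (39, [0])], [(38, []), (40, [3]), (40, [2]), (40, [4]), (40, [1]), (43, []), (37, [])], [(43, []), (39, []), (41, [2]), (41, [4]), (44, []), (38, []), (41, [0])], [(42, [3]), (44, []), (42, [5]), (42, [4]), (39, []), (42, [1]), (42, [0])], [(41, []), (43, [3]), (43, [2]), (43, [4]), (45, []), (40, []), (43, [0])], [(45, []), (42, []), (46, []), (44, [4]), (41, []), (44, [1]), (44, [0])], [(44, []), (45, [3]), (47, []), (45, [4]), (43, []), (45, [1]), (45, [0])], [(47, []), (46, [5]), (44, []), (48, []), (46, [2]), (46, [1]), (46, [0])], [(46, []), (49, []), (45, []), (50, []), (47, [2]), (47, [1]), (47, [0])], [(50, []), (48, [5]), (48, [4]), (46, []), (48, [2]), (48, [1]), (48, [0])], [(49,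 [5]), (47, []), (49, [3]), (51, []), (49, [2]), (49, [1]), (49, [0])], [(48, []), (51, []), (50, [4]), (47, []), (50, [2]), (50, [1]), (50, [0])], [(51, [5]), (50, []), (52, []), (49, []), (51, [2]), (51, [1]), (51, [0])], [(52, [5]), (52, [4]), (51, []), (52, [3]), (53, []), (52, [1]), (52, [0])], [(53, [5]), (53, [4]), (53, [2]), (53, [3]), (52, []), (54, []), (53, [0])], [(54, [5]), (54, [4]), (54, [2]), (54, [3]), (54, [1]), (53, []), (55, [])], [(55, [5]), (55, [4]), (55, [2]), (55, [3]), (55, [1]), (55, [0]), (54, [])]]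
  phi := 2658537121131479562943222405060886592

/-- Level 8. -/
def levelA8 : Level where
  reps := [[], [7]]
  edges := [[(0, [0]), (0, [1]), (0, [2]), (0, [3]), (0, [4]), (0, [5]), (0, [6]), (1, [])], [(1, [0]), (1, [1]), (1, [2]), (1, [3]), (1, [4]), (1, [5]), (1, [6]), (0, [])]]
  phi := 340282366920899777837146934900131102719

/-- The levels. -/
def levelsA : List Level := [levelA1, levelA2, levelA3, levelA4, levelA5, levelA6, levelA7, levelA8]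

/-- Orbit words. -/
def orbitA : List (List ℕ) := [[], [2], [2, 0], [2, 3], [2, 0, 3], [2, 3, 1], [2, 3, 4], [2, 0, 3, 1], [2, 0, 3, 2], [2, 0, 3, 4], [2, 3, 1, 4], [2, 3, 4, 5], [2, 0, 3, 1, 2], [2, 0, 3, 1, 4], [2, 0, 3, 2, 4], [2, 0, 3, 4, 5], [2, 3, 1, 4, 3], [2, 3, 1, 4, 5], [2, 3, 4, 5, 6], [2, 0, 3, 1, 2, 3], [2, 0, 3, 1, 2, 4], [2, 0, 3, 1, 4, 3], [2, 0, 3, 1, 4, 5], [2, 0, 3, 2, 4, 3], [2, 0, 3, 2, 4, 5], [2, 0, 3, 4, 5, 6], [2, 3, 1, 4, 3, 2], [2, 3, 1, 4, 3, 5], [2, 3, 1, 4, 5, 6], [2, 3, 4, 5, 6, 7], [2, 0, 3, 1, 2, 4, 5], [2, 0, 3, 1, 4, 3, 5], [2, 0, 3, 1, 4, 5, 6], [2, 0, 3, 2, 4, 3, 5], [2, 0, 3, 2, 4, 5, 6], [2, 0, 3, 4, 5, 6, 7], [2, 3, 1, 4, 3, 2, 5], [2, 3, 1, 4, 3, 5, 4], [2, 3, 1, 4, 3, 5, 6], [2, 3, 1, 4, 5, 6, 7], [2, 0, 3, 1, 2, 4, 5, 6], [2, 0, 3,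 1, 4, 3, 5, 4], [2, 0, 3, 1, 4, 3, 5, 6], [2, 0, 3, 1, 4, 5, 6, 7], [2, 0, 3, 2, 4, 3, 5, 4], [2, 0, 3, 2, 4, 3, 5, 6], [2, 0, 3, 2, 4, 5, 6, 7], [2, 3, 1, 4, 3, 2, 5, 4], [2, 3, 1, 4, 3, 2, 5, 6], [2, 3, 1, 4, 3, 5, 4, 6], [2, 3, 1, 4, 3, 5, 6, 7], [2, 0, 3, 1, 2, 4, 5, 6, 7], [2, 0, 3, 1, 4, 3, 5, 4, 6], [2, 0, 3, 1, 4, 3, 5, 6, 7], [2, 0, 3, 2, 4, 3, 5, 4, 6], [2, 0, 3, 2, 4, 3, 5, 6, 7], [2, 3, 1, 4, 3, 2, 5, 4, 3], [2, 3, 1, 4, 3, 2, 5, 4, 6], [2, 3, 1, 4, 3, 2, 5, 6, 7], [2, 3, 1, 4, 3, 5, 4, 6, 5], [2, 3, 1, 4, 3, 5, 4, 6, 7], [2, 0, 3, 1, 4, 3, 5, 4, 6, 5], [2, 0, 3, 1, 4, 3, 5, 4, 6, 7], [2, 0, 3, 2, 4, 3, 5, 4, 6, 5], [2, 0, 3, 2, 4, 3, 5, 4, 6, 7], [2, 3, 1, 4, 3, 2, 5, 4, 3, 1], [2, 3, 1, 4, 3, 2, 5, 4, 3, 6], [2, 3, 1, 4, 3, 2, 5, 4, 6, 5], [2, 3, 1, 4, 3, 2, 5,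 4, 6, 7], [2, 3, 1, 4, 3, 5, 4, 6, 5, 7], [2, 0, 3, 1, 4, 3, 5, 4, 6, 5, 7], [2, 0, 3, 2, 4, 3, 5, 4, 6, 5, 7], [2, 3, 1, 4, 3, 2, 5, 4, 3, 1, 6], [2, 3, 1, 4, 3, 2, 5, 4, 3, 6, 5], [2, 3, 1, 4, 3, 2, 5, 4, 3, 6, 7], [2, 3, 1, 4, 3, 2, 5, 4, 6, 5, 7], [2, 3, 1, 4, 3, 5, 4, 6, 5, 7, 6], [2, 0, 3, 1, 4, 3, 5, 4, 6, 5, 7, 6], [2, 0, 3, 2, 4, 3, 5, 4, 6, 5, 7, 6], [2, 3, 1, 4, 3, 2, 5, 4, 3, 1, 6, 5], [2, 3, 1, 4, 3, 2, 5, 4, 3, 1, 6, 7], [2, 3, 1, 4, 3, 2, 5, 4, 3, 6, 5, 4], [2, 3, 1, 4, 3, 2, 5, 4, 3, 6, 5, 7], [2, 3, 1, 4, 3, 2, 5, 4, 6, 5, 7, 6], [2, 3, 1, 4, 3, 2, 5, 4, 3, 1, 6, 5, 4], [2, 3, 1, 4, 3, 2, 5, 4, 3, 1, 6, 5, 7], [2, 3, 1, 4, 3, 2, 5, 4, 3, 6, 5, 4, 7], [2, 3, 1, 4, 3, 2, 5, 4, 3, 6, 5, 7, 6], [2, 3, 1, 4, 3, 2, 5, 4, 3, 1, 6, 5, 4, 3], [2, 3, 1, 4, 3, 2, 5, 4,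 3, 1, 6, 5, 4, 7], [2, 3, 1, 4, 3, 2, 5, 4, 3, 1, 6, 5, 7, 6], [2, 3, 1, 4, 3, 2, 5, 4, 3, 6, 5, 4, 7, 6], [2, 3, 1, 4, 3, 2, 5, 4, 3, 1, 6, 5, 4, 3, 2], [2, 3, 1, 4, 3, 2, 5, 4, 3, 1, 6, 5, 4, 3, 7], [2, 3, 1, 4, 3, 2, 5, 4, 3, 1, 6, 5, 4, 7, 6], [2, 3, 1, 4, 3, 2, 5, 4, 3, 6, 5, 4, 7, 6, 5], [2, 3, 1, 4, 3, 2, 5, 4, 3, 1, 6, 5, 4, 3, 2, 0], [2, 3, 1, 4, 3, 2, 5, 4, 3, 1, 6, 5, 4, 3, 2, 7], [2, 3, 1, 4, 3, 2, 5, 4, 3, 1, 6, 5, 4, 3, 7, 6], [2, 3, 1, 4, 3, 2, 5, 4, 3, 1, 6, 5, 4, 7, 6, 5], [2, 3, 1, 4, 3, 2, 5, 4, 3, 1, 6, 5, 4, 3, 2, 0, 7], [2, 3, 1, 4, 3, 2, 5, 4, 3, 1, 6, 5, 4, 3, 2, 7, 6], [2, 3, 1, 4, 3, 2, 5, 4, 3, 1, 6, 5, 4, 3, 7, 6, 5], [2, 3, 1, 4, 3, 2, 5, 4, 3, 1, 6, 5, 4, 3, 2, 0, 7, 6], [2, 3, 1, 4, 3, 2, 5, 4, 3, 1, 6, 5, 4, 3, 2, 7, 6, 5], [2, 3, 1, 4, 3, 2,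 5, 4, 3, 1, 6, 5, 4, 3, 7, 6, 5, 4], [2, 3, 1, 4, 3, 2, 5, 4, 3, 1, 6, 5, 4, 3, 2, 0, 7, 6, 5], [2, 3, 1, 4, 3, 2, 5, 4, 3, 1, 6, 5, 4, 3, 2, 7, 6, 5, 4], [2, 3, 1, 4, 3, 2, 5, 4, 3, 1, 6, 5, 4, 3, 2, 0, 7, 6, 5, 4], [2, 3, 1, 4, 3, 2, 5, 4, 3, 1, 6, 5, 4, 3, 2, 7, 6, 5, 4, 3], [2, 3, 1, 4, 3, 2, 5, 4, 3, 1, 6, 5, 4, 3, 2, 0, 7, 6, 5, 4, 3], [2, 3, 1, 4, 3, 2, 5, 4, 3, 1, 6, 5, 4, 3, 2, 7, 6, 5, 4, 3, 1], [2, 3, 1, 4, 3, 2, 5, 4, 3, 1, 6, 5, 4, 3, 2, 0, 7, 6, 5, 4, 3, 1], [2, 3, 1, 4, 3, 2, 5, 4, 3, 1, 6, 5, 4, 3, 2, 0, 7, 6, 5, 4, 3, 2], [2, 3, 1, 4, 3, 2, 5, 4, 3, 1, 6, 5, 4, 3, 2, 0, 7, 6, 5, 4, 3, 1, 2], [2, 3, 1, 4, 3, 2, 5, 4, 3, 1, 6, 5, 4, 3, 2, 0, 7, 6, 5, 4, 3, 1, 2, 3], [2, 3, 1, 4, 3, 2, 5, 4, 3, 1, 6, 5, 4, 3, 2, 0, 7, 6, 5, 4, 3, 1, 2, 3, 4], [2, 3, 1, 4, 3, 2,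 5, 4, 3, 1, 6, 5, 4, 3, 2, 0, 7, 6, 5, 4, 3, 1, 2, 3, 4, 5], [2, 3, 1, 4, 3, 2, 5, 4, 3, 1, 6, 5, 4, 3, 2, 0, 7, 6, 5, 4, 3, 1, 2, 3, 4, 5, 6], [2, 3, 1, 4, 3, 2, 5, 4, 3, 1, 6, 5, 4, 3, 2, 0, 7, 6, 5, 4, 3, 1, 2, 3, 4, 5, 6, 7]]

/-- Coordinates of the representative. -/
def codeB : ℕ := 3

/-- The centralized sub-root system. -/
def certB : SubCert where
  E := [0, 1, 2, 3, 4, 6, 8, 14, 15, 21, 22, 23, 24, 25, 46, 47, 48, 49, 50, 51, 52, 53, 54, 55, 66, 67, 68, 69, 70, 71, 72, 73, 74, 75, 77, 88, 89, 90, 91, 92, 98, 99, 100, 101, 102, 103, 110, 111, 112, 113, 114, 115, 116, 117, 118, 119, 120, 121, 122, 123, 124, 125, 126, 127, 128, 129, 136, 137, 138, 139, 140, 141, 147, 148, 149, 150, 151, 162, 164, 165, 166, 167, 168, 169, 170, 171, 172, 173, 184, 185, 186, 187, 188, 189,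 190, 191, 192, 193, 214, 215, 216, 217, 218, 224, 225, 231, 233, 235, 236, 237, 238, 239]
  S := [71, 66, 77, 62, 59, 57, 56, 98]
  tabs := [229955377305094157071370347874475101497661209040940947204966689803681617818303900949918244167126227290427421966272951546318820490635114306222902331939078572589103074334842795021515074501272310590954700699164092746482926691823736874350382587396923077645083644196886282496, 229955377304617422449597445756887613436926652490843287192332823795259533567494912792693850202368812274566259835636612005177291535573909037210761939703667524717890035695486007017113458041713121577201129849738987168847448231125583836349074638298042772505365283646270996736, 229955377305092258283513519784503830145072383340215091200790237224432498124926537682832997161995300571865179031372597993310492879578116821179695746634272989967077450692258137419251005093115571317742030910125683743286443278760449636016812631541854905232390290529444823296,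 229955377182573352001452036078874472355492267136668432503797912702406191420382024487550623002714399691419339221112963759007310031495654365988104716301596928358949164876119285382300262266922625665621403546057203611315005415870394997929695984091653053785537080925133865216, 229955345939291317247811992618543104733576038823311928837138800803983521042770823252561394314542420455729938570269542233465208760869690919941281176827305926156391345115615655688777851494002000936487892716802930704895414894332134065090174264422837713118265840230488801536, 229947347659090420315849870031959215604883832444733098654467482374116812510047081661047454148202878004741366695426307651884252303851785570161712696250911878350498058480641850506127498116834378607211898638043332728052623775304087352017908358922408646528207906625057522176,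 227899787927660805733546054285461223907848107352771357307509966169757074295111103439100237076569477216649542506453689859000715945726942593737066710070561737060160863458618723320263904766181692375476742470981297294377672091104230926630472491735471185077142406352546693121, 229850171468250943647898625375387410471186465971791035603774339382404642318837503264516954204440814345751130365385747185372136200831774826263590800940092277338269652654083282599890252985215041193626690836909203216178797085585426321499465140338180595663504577381922704896]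
  W := [([], 1), ([3], 2), ([], 0), ([], 4), ([], 5), ([], 6), ([], 7), ([3, 4, 5, 6, 1, 3, 4, 5, 2, 3, 4, 1, 3, 2], 0)]
  R := [([6, 7, 5, 6, 4, 5, 3, 4, 1, 3, 2, 1, 0], 0), ([7, 5, 6, 4, 5, 3, 4, 1, 3, 2, 1, 0], 0), ([7, 6, 4, 5, 3, 4, 1, 3, 2, 1, 0], 0), ([7, 6, 5, 3, 4, 1, 3, 2, 1, 0], 0), ([7, 6, 5, 4, 1, 3, 2, 1, 0], 0), ([7, 6, 5, 4, 3, 2, 1, 0], 0), ([7, 6, 5, 4, 3, 2, 1], 1), ([7, 6, 5, 4, 3, 1, 0], 0), ([7, 6, 5, 4, 3, 1], 1), ([7, 6, 5, 4, 3], 3), ([7, 6, 5, 4], 4), ([7, 6, 5], 5), ([7, 6], 6), ([7], 7), ([5, 6, 4, 5, 3, 4, 1, 3, 2, 1, 0], 0), ([6, 4, 5, 3, 4, 1, 3, 2, 1, 0], 0), ([4, 5, 3, 4, 1, 3, 2, 1, 0], 0), ([6, 5, 3, 4, 1, 3, 2, 1, 0], 0), ([5, 3, 4, 1, 3, 2, 1, 0], 0), ([3, 4, 1, 3, 2, 1, 0], 0), ([6, 5, 4, 1, 3, 2, 1, 0], 0), ([5, 4, 1, 3, 2, 1, 0], 0), ([4,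 1, 3, 2, 1, 0], 0), ([1, 3, 2, 1, 0], 0), ([6, 5, 4, 3, 2, 1, 0], 0), ([5, 4, 3, 2, 1, 0], 0), ([4, 3, 2, 1, 0], 0), ([3, 2, 1, 0], 0), ([2, 1, 0], 0), ([6, 5, 4, 3, 2, 1], 1), ([5, 4, 3, 2, 1], 1), ([4, 3, 2, 1], 1), ([3, 2, 1], 1), ([2, 1], 1), ([2], 2), ([6, 5, 4, 3, 1, 0], 0), ([5, 4, 3, 1, 0], 0), ([4, 3, 1, 0], 0), ([3, 1, 0], 0), ([1, 0], 0), ([0], 0), ([6, 5, 4, 3, 1], 1), ([5, 4, 3, 1], 1), ([4, 3, 1], 1), ([3, 1], 1), ([1], 1), ([6, 5, 4, 3], 3), ([5, 4, 3], 3), ([4, 3], 3), ([3], 3), ([6, 5, 4], 4), ([5, 4], 4), ([4], 4), ([6, 5], 5), ([5], 5), ([6], 6), ([], 6), ([], 5), ([6], 5), ([], 4), ([5], 4), ([6, 5], 4), ([], 3), ([4], 3), ([5, 4], 3), ([6, 5, 4], 3), ([], 1), ([3], 1), ([4, 3], 1), ([5, 4, 3], 1), ([6, 5, 4, 3], 1), ([], 0), ([1], 0), ([3, 1], 0), ([4, 3,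 1], 0), ([5, 4, 3, 1], 0), ([6, 5, 4, 3, 1], 0), ([], 2), ([2], 1), ([3, 2], 1), ([4, 3, 2], 1), ([5, 4, 3, 2], 1), ([6, 5, 4, 3, 2], 1), ([2, 1], 0), ([3, 2, 1], 0), ([4, 3, 2, 1], 0), ([5, 4, 3, 2, 1], 0), ([6, 5, 4, 3, 2, 1], 0), ([1, 3, 2, 1], 0), ([4, 1, 3, 2, 1], 0), ([5, 4, 1, 3, 2, 1], 0), ([6, 5, 4, 1, 3, 2, 1], 0), ([3, 4, 1, 3, 2, 1], 0), ([5, 3, 4, 1, 3, 2, 1], 0), ([6, 5, 3, 4, 1, 3, 2, 1], 0), ([4, 5, 3, 4, 1, 3, 2, 1], 0), ([6, 4, 5, 3, 4, 1, 3, 2, 1], 0), ([5, 6, 4, 5, 3, 4, 1, 3, 2, 1], 0), ([], 7), ([7], 6), ([7, 6], 5), ([7, 6, 5], 4), ([7, 6, 5, 4], 3), ([7, 6, 5, 4, 3], 1), ([7, 6, 5, 4, 3, 1], 0), ([7, 6, 5, 4, 3, 2], 1), ([7, 6, 5, 4, 3, 2, 1], 0), ([7, 6, 5, 4, 1, 3, 2, 1], 0), ([7, 6, 5, 3, 4, 1, 3, 2, 1], 0), ([7, 6, 4, 5, 3, 4, 1, 3, 2, 1], 0), ([7,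 5, 6, 4, 5, 3, 4, 1, 3, 2, 1], 0), ([6, 7, 5, 6, 4, 5, 3, 4, 1, 3, 2, 1], 0)]

/-- Level 1. -/
def levelB1 : Level where
  reps := [[], [0]]
  edges := [[(1, [])], [(0, [])]]
  phi := 0

/-- Level 2. -/
def levelB2 : Level where
  reps := [[], [1], [0, 1]]
  edges := [[(0, [0]), (1, [])], [(2, []), (0, [])], [(1, []), (2, [0])]]
  phi := 2361183242534334234624

/-- Level 3. -/
def levelB3 : Level where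
  reps := [[], [2], [1, 2], [0, 1, 2]]
  edges := [[(0, [0]), (0, [1]), (1, [])], [(1, [0]), (2, []), (0, [])], [(3, []), (1, []), (2, [1])], [(2, []), (3, [0]), (3, [1])]]
  phi := 7157336737432945557504

/-- Level 4. -/
def levelB4 : Level where
  reps := [[], [3], [1, 3], [0, 1, 3], [2, 1, 3], [2, 0, 1, 3], [1, 2, 0, 1, 3], [3, 1, 2, 0, 1, 3]]
  edges := [[(0, [0]), (0, [1]), (0, [2]), (1, [])], [(1, [0]), (2, []), (1, [2]), (0, [])], [(3, []), (1, []), (4, []), (2, [1])], [(2, []), (3, [0]), (5, []), (3, [1])], [(5, []), (4, [2]), (2, []), (4, [1])], [(4, []), (6, []), (3, []), (5, [1])], [(6, [2]), (5, []), (6, [0]), (7, [])], [(7, [2]), (7, [1]), (7, [0]), (6, [])]]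
  phi := 10131911076009978321960960

/-- Level 5. -/
def levelB5 : Level where
  reps := [[], [4], [3, 4], [1, 3, 4], [0, 1, 3, 4], [2, 1, 3, 4], [2, 0, 1, 3, 4], [1, 2, 0, 1, 3, 4], [3, 1, 2, 0, 1, 3, 4], [4, 3, 1, 2, 0, 1, 3, 4]]
  edges := [[(0, [0]), (0, [1]), (0, [2]), (0, [3]), (1, [])], [(1, [0]), (1, [1]), (1, [2]), (2, []), (0, [])], [(2, [0]), (3, []), (2, [2]), (1, []), (2, [3])], [(4, []), (2, []), (5, []), (3, [1]), (3, [3])], [(3, []), (4, [0]), (6, []), (4, [1]), (4, [3])], [(6, []), (5, [2]), (3, []), (5, [1]), (5, [3])], [(5, []), (7, []), (4, []), (6, [1]), (6, [3])], [(7, [2]), (6, []), (7, [0]), (8, []), (7, [3])], [(8, [2]), (8, [1]), (8, [0]), (7, []), (9, [])], [(9, [2]), (9, [1]), (9, [0]), (9, [3]), (8, [])]]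
  phi := 339573793840181597278568448

/-- Level 6. -/
def levelB6 : Level where
  reps := [[], [5], [4, 5], [3, 4, 5], [1, 3, 4, 5], [0, 1, 3, 4, 5], [2, 1, 3, 4, 5], [2, 0, 1, 3, 4, 5], [1, 2, 0, 1, 3, 4, 5], [3, 1, 2, 0, 1, 3, 4, 5], [4, 3, 1, 2, 0, 1, 3, 4, 5], [5, 4, 3, 1, 2, 0, 1, 3, 4, 5]]
  edges := [[(0, [0]), (0, [1]), (0, [2]), (0, [3]), (0, [4]), (1, [])], [(1, [0]), (1, [1]), (1, [2]), (1, [3]), (2, []), (0, [])], [(2, [0]), (2, [1]), (2, [2]), (3, []), (1, []), (2, [4])], [(3, [0]), (4, []), (3, [2]), (2, []), (3, [3]), (3, [4])], [(5, []), (3, []), (6, []), (4, [1]), (4, [3]), (4, [4])], [(4, []), (5, [0]), (7, []), (5, [1]), (5, [3]), (5, [4])], [(7, []), (6, [2]), (4, []), (6, [1]), (6, [3]), (6, [4])], [(6, []), (8, []), (5, []), (7, [1]), (7, [3]), (7, [4])],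 [(8, [2]), (7, []), (8, [0]), (9, []), (8, [3]), (8, [4])], [(9, [2]), (9, [1]), (9, [0]), (8, []), (10, []), (9, [4])], [(10, [2]), (10, [1]), (10, [0]), (10, [3]), (9, []), (11, [])], [(11, [2]), (11, [1]), (11, [0]), (11, [3]), (11, [4]), (10, [])]]
  phi := 5950217717090139054537179136

/-- Level 7. -/
def levelB7 : Level where
  reps := [[], [6], [5, 6], [4, 5, 6], [3, 4, 5, 6], [1, 3, 4, 5, 6], [0, 1, 3, 4, 5, 6], [2, 1, 3, 4, 5, 6], [2, 0, 1, 3, 4, 5, 6], [1, 2, 0, 1, 3, 4, 5, 6], [3, 1, 2, 0, 1, 3, 4, 5, 6], [4, 3, 1, 2, 0, 1, 3, 4, 5, 6], [5, 4, 3, 1, 2, 0, 1, 3, 4, 5, 6], [6, 5, 4, 3, 1, 2, 0, 1, 3, 4, 5, 6]]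
  edges := [[(0, [0]), (0, [1]), (0, [2]), (0, [3]), (0, [4]), (0, [5]), (1, [])], [(1, [0]), (1, [1]), (1, [2]), (1, [3]), (1, [4]), (2, []), (0, [])], [(2, [0]), (2, [1]), (2, [2]), (2, [3]), (3, []), (1, []), (2, [5])], [(3, [0]), (3, [1]), (3, [2]), (4, []), (2, []), (3, [4]), (3, [5])], [(4, [0]), (5, []), (4, [2]), (3, []), (4, [3]), (4, [4]), (4, [5])], [(6, []), (4, []), (7, []), (5, [1]), (5, [3]), (5, [4]), (5, [5])], [(5, []), (6, [0]), (8, []), (6, [1]), (6, [3]), (6, [4]), (6, [5])], [(8, []), (7, [2]), (5, []), (7, [1]), (7, [3]), (7, [4]), (7, [5])], [(7, []), (9, []), (6, []), (8, [1]), (8, [3]), (8, [4]), (8, [5])], [(9, [2]), (8, []), (9, [0]), (10, []), (9, [3]), (9, [4]), (9, [5])], [(10, [2]), (10, [1]), (10, [0]), (9, []), (11, []), (10, [4]), (10, [5])],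 [(11, [2]), (11, [1]), (11, [0]), (11, [3]), (10, []), (12, []), (11, [5])], [(12, [2]), (12, [1]), (12, [0]), (12, [3]), (12, [4]), (11, []), (13, [])], [(13, [2]), (13, [1]), (13, [0]), (13, [3]), (13, [4]), (13, [5]), (12, [])]]
  phi := 56785586820877161336878727168

/-- Level 8. -/
def levelB8 : Level where
  reps := [[], [7], [6, 7], [5, 6, 7], [4, 5, 6, 7], [3, 4, 5, 6, 7], [1, 3, 4, 5, 6, 7], [0, 1, 3, 4, 5, 6, 7], [2, 1, 3, 4, 5, 6, 7], [2, 0, 1, 3, 4, 5, 6, 7], [1, 2, 0, 1, 3, 4, 5, 6, 7], [3, 1, 2, 0, 1, 3, 4, 5, 6, 7], [4, 3, 1, 2, 0, 1, 3, 4, 5, 6, 7], [5, 4, 3, 1, 2, 0, 1, 3, 4, 5, 6, 7], [6, 5, 4, 3, 1, 2, 0, 1, 3, 4, 5, 6, 7], [7, 6, 5, 4, 3, 1, 2, 0, 1, 3, 4, 5, 6, 7]]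
  edges := [[(0, [0]), (0, [1]), (0, [2]), (0, [3]), (0, [4]), (0, [5]), (0, [6]), (1, [])], [(1, [0]), (1, [1]), (1, [2]), (1, [3]), (1, [4]), (1, [5]), (2, []), (0, [])], [(2, [0]), (2, [1]), (2, [2]), (2, [3]), (2, [4]), (3, []), (1, []), (2, [6])], [(3, [0]), (3, [1]), (3, [2]), (3, [3]), (4, []), (2, []), (3, [5]), (3, [6])], [(4, [0]), (4, [1]), (4, [2]), (5, []), (3, []), (4, [4]), (4, [5]), (4, [6])], [(5, [0]), (6, []), (5, [2]), (4, []), (5, [3]), (5, [4]), (5, [5]), (5, [6])], [(7, []), (5, []), (8, []), (6, [1]), (6, [3]), (6, [4]), (6, [5]), (6, [6])], [(6, []), (7, [0]), (9, []), (7, [1]), (7, [3]), (7, [4]), (7, [5]), (7, [6])], [(9, []), (8, [2]), (6, []), (8, [1]), (8, [3]), (8, [4]), (8, [5]), (8, [6])], [(8, []), (10, []), (7, []), (9, [1]), (9, [3]), (9,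 [4]), (9, [5]), (9, [6])], [(10, [2]), (9, []), (10, [0]), (11, []), (10, [3]), (10, [4]), (10, [5]), (10, [6])], [(11, [2]), (11, [1]), (11, [0]), (10, []), (12, []), (11, [4]), (11, [5]), (11, [6])], [(12, [2]), (12, [1]), (12, [0]), (12, [3]), (11, []), (13, []), (12, [5]), (12, [6])], [(13, [2]), (13, [1]), (13, [0]), (13, [3]), (13, [4]), (12, []), (14, []), (13, [6])], [(14, [2]), (14, [1]), (14, [0]), (14, [3]), (14, [4]), (14, [5]), (13, []), (15, [])], [(15, [2]), (15, [1]), (15, [0]), (15, [3]), (15, [4]), (15, [5]), (15, [6]), (14, [])]]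
  phi := 316912650057057350374175784960

/-- The levels. -/
def levelsB : List Level := [levelB1, levelB2, levelB3, levelB4, levelB5, levelB6, levelB7, levelB8]

/-- Orbit words. -/
def orbitB : List (List ℕ) := [[], [2], [3], [2, 0], [3, 1], [3, 4], [3, 1, 4], [3, 4, 5], [3, 1, 4, 3], [3, 1, 4, 5], [3, 4, 5, 6], [3, 1, 4, 3, 2], [3, 1, 4, 3, 5], [3, 1, 4, 5, 6], [3, 4, 5, 6, 7], [3, 1, 4, 3, 2, 0], [3, 1, 4, 3, 2, 5], [3, 1, 4, 3, 5, 4], [3, 1, 4, 3, 5, 6], [3, 1, 4, 5, 6, 7], [3, 1, 4, 3, 2, 0, 5], [3, 1, 4, 3, 2, 5, 4], [3, 1, 4, 3, 2, 5, 6], [3, 1, 4, 3, 5, 4, 6], [3, 1, 4, 3, 5, 6, 7], [3, 1, 4, 3, 2, 0, 5, 4], [3, 1, 4, 3, 2, 0, 5, 6], [3, 1, 4, 3, 2, 5, 4, 3], [3, 1, 4, 3, 2, 5, 4, 6], [3, 1, 4, 3, 2, 5, 6, 7], [3, 1, 4, 3, 5, 4, 6, 5], [3, 1, 4, 3, 5, 4, 6, 7], [3, 1,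 4, 3, 2, 0, 5, 4, 3], [3, 1, 4, 3, 2, 0, 5, 4, 6], [3, 1, 4, 3, 2, 0, 5, 6, 7], [3, 1, 4, 3, 2, 5, 4, 3, 1], [3, 1, 4, 3, 2, 5, 4, 3, 6], [3, 1, 4, 3, 2, 5, 4, 6, 5], [3, 1, 4, 3, 2, 5, 4, 6, 7], [3, 1, 4, 3, 5, 4, 6, 5, 7], [3, 1, 4, 3, 2, 0, 5, 4, 3, 1], [3, 1, 4, 3, 2, 0, 5, 4, 3, 2], [3, 1, 4, 3, 2, 0, 5, 4, 3, 6], [3, 1, 4, 3, 2, 0, 5, 4, 6, 5], [3, 1, 4, 3, 2, 0, 5, 4, 6, 7], [3, 1, 4, 3, 2, 5, 4, 3, 1, 6], [3, 1, 4, 3, 2, 5, 4, 3, 6, 5], [3, 1, 4, 3, 2, 5, 4, 3, 6, 7], [3, 1, 4, 3, 2, 5, 4, 6, 5, 7], [3, 1, 4, 3, 5, 4, 6, 5, 7, 6], [3, 1, 4, 3, 2, 0, 5, 4, 3, 1, 2], [3, 1, 4, 3, 2, 0, 5, 4, 3, 1, 6], [3, 1, 4, 3, 2, 0, 5, 4, 3, 2, 6], [3, 1, 4, 3, 2, 0, 5, 4, 3, 6, 5], [3, 1, 4, 3, 2, 0, 5, 4, 3, 6, 7], [3, 1, 4, 3, 2, 0, 5, 4, 6, 5, 7], [3, 1, 4, 3, 2, 5, 4, 3, 1, 6,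 5], [3, 1, 4, 3, 2, 5, 4, 3, 1, 6, 7], [3, 1, 4, 3, 2, 5, 4, 3, 6, 5, 4], [3, 1, 4, 3, 2, 5, 4, 3, 6, 5, 7], [3, 1, 4, 3, 2, 5, 4, 6, 5, 7, 6], [3, 1, 4, 3, 2, 0, 5, 4, 3, 1, 2, 3], [3, 1, 4, 3, 2, 0, 5, 4, 3, 1, 2, 6], [3, 1, 4, 3, 2, 0, 5, 4, 3, 1, 6, 5], [3, 1, 4, 3, 2, 0, 5, 4, 3, 1, 6, 7], [3, 1, 4, 3, 2, 0, 5, 4, 3, 2, 6, 5], [3, 1, 4, 3, 2, 0, 5, 4, 3, 2, 6, 7], [3, 1, 4, 3, 2, 0, 5, 4, 3, 6, 5, 4], [3, 1, 4, 3, 2, 0, 5, 4, 3, 6, 5, 7], [3, 1, 4, 3, 2, 0, 5, 4, 6, 5, 7, 6], [3, 1, 4, 3, 2, 5, 4, 3, 1, 6, 5, 4], [3, 1, 4, 3, 2, 5, 4, 3, 1, 6, 5, 7], [3, 1, 4, 3, 2, 5, 4, 3, 6, 5, 4, 7], [3, 1, 4, 3, 2, 5, 4, 3, 6, 5, 7, 6], [3, 1, 4, 3, 2, 0, 5, 4, 3, 1, 2, 3, 4], [3, 1, 4, 3, 2, 0, 5, 4, 3, 1, 2, 3, 6], [3, 1, 4, 3, 2, 0, 5, 4, 3, 1, 2, 6, 5], [3, 1, 4, 3, 2, 0, 5, 4,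 3, 1, 2, 6, 7], [3, 1, 4, 3, 2, 0, 5, 4, 3, 1, 6, 5, 4], [3, 1, 4, 3, 2, 0, 5, 4, 3, 1, 6, 5, 7], [3, 1, 4, 3, 2, 0, 5, 4, 3, 2, 6, 5, 4], [3, 1, 4, 3, 2, 0, 5, 4, 3, 2, 6, 5, 7], [3, 1, 4, 3, 2, 0, 5, 4, 3, 6, 5, 4, 7], [3, 1, 4, 3, 2, 0, 5, 4, 3, 6, 5, 7, 6], [3, 1, 4, 3, 2, 5, 4, 3, 1, 6, 5, 4, 3], [3, 1, 4, 3, 2, 5, 4, 3, 1, 6, 5, 4, 7], [3, 1, 4, 3, 2, 5, 4, 3, 1, 6, 5, 7, 6], [3, 1, 4, 3, 2, 5, 4, 3, 6, 5, 4, 7, 6], [3, 1, 4, 3, 2, 0, 5, 4, 3, 1, 2, 3, 4, 5], [3, 1, 4, 3, 2, 0, 5, 4, 3, 1, 2, 3, 4, 6], [3, 1, 4, 3, 2, 0, 5, 4, 3, 1, 2, 3, 6, 5], [3, 1, 4, 3, 2, 0, 5, 4, 3, 1, 2, 3, 6, 7], [3, 1, 4, 3, 2, 0, 5, 4, 3, 1, 2, 6, 5, 4], [3, 1, 4, 3, 2, 0, 5, 4, 3, 1, 2, 6, 5, 7], [3, 1, 4, 3, 2, 0, 5, 4, 3, 1, 6, 5, 4, 3], [3, 1, 4, 3, 2, 0, 5, 4, 3, 1, 6, 5, 4, 7], [3, 1,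 4, 3, 2, 0, 5, 4, 3, 1, 6, 5, 7, 6], [3, 1, 4, 3, 2, 0, 5, 4, 3, 2, 6, 5, 4, 3], [3, 1, 4, 3, 2, 0, 5, 4, 3, 2, 6, 5, 4, 7], [3, 1, 4, 3, 2, 0, 5, 4, 3, 2, 6, 5, 7, 6], [3, 1, 4, 3, 2, 0, 5, 4, 3, 6, 5, 4, 7, 6], [3, 1, 4, 3, 2, 5, 4, 3, 1, 6, 5, 4, 3, 2], [3, 1, 4, 3, 2, 5, 4, 3, 1, 6, 5, 4, 3, 7], [3, 1, 4, 3, 2, 5, 4, 3, 1, 6, 5, 4, 7, 6], [3, 1, 4, 3, 2, 5, 4, 3, 6, 5, 4, 7, 6, 5], [3, 1, 4, 3, 2, 0, 5, 4, 3, 1, 2, 3, 4, 6, 7], [3, 1, 4, 3, 2, 0, 5, 4, 3, 1, 2, 3, 6, 5, 7], [3, 1, 4, 3, 2, 0, 5, 4, 3, 1, 2, 6, 5, 4, 7], [3, 1, 4, 3, 2, 0, 5, 4, 3, 1, 2, 6, 5, 7, 6], [3, 1, 4, 3, 2, 0, 5, 4, 3, 1, 6, 5, 4, 3, 7], [3, 1, 4, 3, 2, 0, 5, 4, 3, 1, 6, 5, 4, 7, 6], [3, 1, 4, 3, 2, 0, 5, 4, 3, 2, 6, 5, 4, 3, 7], [3, 1, 4, 3, 2, 0, 5, 4, 3, 2, 6, 5, 4, 7, 6], [3, 1, 4, 3, 2, 0, 5,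 4, 3, 6, 5, 4, 7, 6, 5], [3, 1, 4, 3, 2, 5, 4, 3, 1, 6, 5, 4, 3, 2, 7], [3, 1, 4, 3, 2, 5, 4, 3, 1, 6, 5, 4, 3, 7, 6], [3, 1, 4, 3, 2, 5, 4, 3, 1, 6, 5, 4, 7, 6, 5], [3, 1, 4, 3, 2, 0, 5, 4, 3, 1, 2, 3, 6, 5, 7, 6], [3, 1, 4, 3, 2, 0, 5, 4, 3, 1, 2, 6, 5, 4, 7, 6], [3, 1, 4, 3, 2, 0, 5, 4, 3, 1, 6, 5, 4, 3, 7, 6], [3, 1, 4, 3, 2, 0, 5, 4, 3, 1, 6, 5, 4, 7, 6, 5], [3, 1, 4, 3, 2, 0, 5, 4, 3, 2, 6, 5, 4, 3, 7, 6], [3, 1, 4, 3, 2, 0, 5, 4, 3, 2, 6, 5, 4, 7, 6, 5], [3, 1, 4, 3, 2, 5, 4, 3, 1, 6, 5, 4, 3, 2, 7, 6], [3, 1, 4, 3, 2, 5, 4, 3, 1, 6, 5, 4, 3, 7, 6, 5], [3, 1, 4, 3, 2, 0, 5, 4, 3, 1, 2, 6, 5, 4, 7, 6, 5], [3, 1, 4, 3, 2, 0, 5, 4, 3, 1, 6, 5, 4, 3, 7, 6, 5], [3, 1, 4, 3, 2, 0, 5, 4, 3, 2, 6, 5, 4, 3, 7, 6, 5], [3, 1, 4, 3, 2, 5, 4, 3, 1, 6, 5, 4, 3, 2, 7, 6, 5], [3, 1,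 4, 3, 2, 5, 4, 3, 1, 6, 5, 4, 3, 7, 6, 5, 4], [3, 1, 4, 3, 2, 0, 5, 4, 3, 1, 6, 5, 4, 3, 7, 6, 5, 4], [3, 1, 4, 3, 2, 0, 5, 4, 3, 2, 6, 5, 4, 3, 7, 6, 5, 4], [3, 1, 4, 3, 2, 5, 4, 3, 1, 6, 5, 4, 3, 2, 7, 6, 5, 4], [3, 1, 4, 3, 2, 5, 4, 3, 1, 6, 5, 4, 3, 2, 7, 6, 5, 4, 3], [3, 1, 4, 3, 2, 5, 4, 3, 1, 6, 5, 4, 3, 2, 7, 6, 5, 4, 3, 1]]

end Cfsg.Agent.OddInvol.E8
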