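/-
Tables for the two classes of involutions of the diagonal subgroup of type F4.
-/
import Cfsg.Agent.Lib.OddInvol.Sub

set_option autoImplicit false
set_option maxRecDepth 100000

namespace Cfsg.Agent.OddInvol.F4

open Cfsg.Agent.RootBN (Level)

/-- Words sending the coordinates to a representative. -/
def paths : List (List ℕ) := [[], [], [1, 0], [1], [], [1, 0, 3, 2, 1, 2, 3], [1], [1, 0], [3, 2], [1, 0, 3, 2, 1], [1, 3, 2], [1, 0, 3, 2], [3], [1, 0, 3, 2, 1, 2], [1, 3], [1, 0, 3]]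

/-- Coordinates of the representative. -/
def codeA : ℕ := 1

/-- The centralized sub-root system. -/
def certA : SubCert where
  E := [0, 1, 2, 4, 5, 6, 8, 9, 10, 14, 15, 16, 17, 21, 22, 23, 24, 25, 26, 30, 31, 32, 33, 37, 38, 39, 41, 42, 43, 45, 46, 47]
  S := [17, 16, 19, 22]
  tabs := [14073144654228273585460729813448049894185158158022140255054670081442109784576, 13624358624777952229544001624383119845109328105514429410802506828230791659521, 14071357182909608723196778402663530438049917996763992086682471193865254863616, 14074904436941648810658617676974736714667490915750808950358982808347825275136]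
  W := [([], 2), ([], 3), ([1], 2), ([], 0)]
  R := [([1, 2, 3, 2, 1, 0], 0), ([2, 3, 2, 1, 0], 0), ([2, 3, 2, 1], 1), ([3, 2, 1, 0], 0), ([3, 2, 1], 1), ([3, 2], 2), ([0, 1, 2, 3], 3), ([1, 2, 3], 3), ([2, 3], 3), ([3], 3), ([2, 1, 0], 0), ([2, 1], 1), ([2], 2), ([1, 0], 0), ([0], 0), ([1], 1), ([], 1), ([], 0), ([1], 0), ([], 2), ([2], 1), ([2, 1], 0), ([], 3), ([2], 3), ([1, 2], 3), ([0, 1, 2], 3), ([3], 2), ([3, 2], 1), ([3, 2, 1], 0), ([2, 3, 2], 1), ([2, 3, 2, 1], 0), ([1, 2, 3, 2, 1], 0)]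

/-- Level 1. -/
def levelA1 : Level where
  reps := [[], [0]]
  edges := [[(1, [])], [(0, [])]]
  phi := 0

/-- Level 2. -/
def levelA2 : Level where
  reps := [[], [1], [0, 1]]
  edges := [[(0, [0]), (1, [])], [(2, []), (0, [])], [(1, []), (2, [0])]]
  phi := 147456

/-- Level 3. -/
def levelA3 : Level where
  reps := [[], [2], [1, 2], [0, 1, 2]]
  edges := [[(0, [0]), (0, [1]), (1, [])], [(1, [0]), (2, []), (0, [])], [(3, []), (1, []), (2, [1])], [(2, []), (3, [0]), (3, [1])]]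
  phi := 516096

/-- Level 4. -/
def levelA4 : Level where
  reps := [[], [3], [2, 3], [1, 2, 3], [3, 2, 3], [0, 1, 2, 3], [3, 1, 2, 3], [3, 0, 1, 2, 3], [2, 3, 1, 2, 3], [2, 3, 0, 1, 2, 3], [3, 2, 3, 1, 2, 3], [1, 2, 3, 0, 1, 2, 3], [3, 2, 3, 0, 1, 2, 3], [3, 1, 2, 3, 0, 1, 2, 3], [2, 3, 1, 2, 3, 0, 1, 2, 3], [3, 2, 3, 1, 2, 3, 0, 1, 2, 3]]
  edges := [[(0, [0]), (0, [1]), (0, [2]), (1, [])], [(1, [0]), (1, [1]), (2, []), (0, [])], [(2, [0]), (3, []), (1, []), (4, [])], [(5, []), (2, []), (3, [1]), (6, [])], [(4, [0]), (6, []), (4, [2]), (2, [])], [(3, []), (5, [0]), (5, [1]), (7, [])], [(7, []), (4, []), (8, []), (3, [])], [(6, []), (7, [0]), (9, []), (5, [])], [(9, []), (8, [2]), (6, []), (10, [])], [(8, []), (11, []), (7, []), (12, [])], [(12, []), (10, [2]), (10, [1]), (8, [])], [(11, [2]), (9, []), (11, [0]), (13, [])], [(10, []), (13, []), (12, [1]), (9, [])], [(13, [2]), (12, []), (14, []), (11, [])], [(14, [2]), (14, [1]), (13, []), (15, [])], [(15,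 [2]), (15, [1]), (15, [0]), (14, [])]]
  phi := 4193280

/-- The levels. -/
def levelsA : List Level := [levelA1, levelA2, levelA3, levelA4]

/-- Orbit words. -/
def orbitA : List (List ℕ) := [[], [1], [1, 0]]

/-- Coordinates of the representative. -/
def codeB : ℕ := 4

/-- The centralized sub-root system. -/
def certB : SubCert where
  E := [0, 3, 6, 7, 10, 11, 14, 17, 18, 22, 25, 29, 30, 33, 36, 37, 40, 41, 44, 47]
  S := [11, 13, 12, 10]
  tabs := [97455916776582463085954346717858049801377022210, 108828688061338884878445334837423019075851191040, 108873723749403824483406980681287110877650223360, 108873724432616589554457070762754864352940130560]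
  W := [([3, 2], 1), ([], 0), ([1], 2), ([], 2)]
  R := [([0, 1, 2], 2), ([1, 2, 1, 0], 0), ([1, 2], 2), ([2, 1, 0], 0), ([2, 1], 1), ([1, 0], 0), ([1], 1), ([2], 2), ([0], 0), ([3], 3), ([], 3), ([], 0), ([], 2), ([], 1), ([1], 0), ([2], 1), ([2, 1], 0), ([1], 2), ([1, 2, 1], 0), ([0, 1], 2)]

/-- Level 1. -/
def levelB1 : Level where
  reps := [[], [0]]
  edges := [[(1, [])], [(0, [])]]
  phi := 0

/-- Level 2. -/
def levelB2 : Level where
  reps := [[], [1], [0, 1]]
  edges := [[(0, [0]), (1, [])], [(2, []), (0, [])], [(1, []), (2, [0])]]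
  phi := 2304

/-- Level 3. -/
def levelB3 : Level where
  reps := [[], [2], [1, 2], [0, 1, 2], [2, 1, 2], [2, 0, 1, 2], [1, 2, 0, 1, 2], [2, 1, 2, 0, 1, 2]]
  edges := [[(0, [0]), (0, [1]), (1, [])], [(1, [0]), (2, []), (0, [])], [(3, []), (1, []), (4, [])], [(2, []), (3, [0]), (5, [])], [(5, []), (4, [1]), (2, [])], [(4, []), (6, []), (3, [])], [(6, [1]), (5, []), (7, [])], [(7, [1]), (7, [0]), (6, [])]]
  phi := 26976

/-- Level 4. -/
def levelB4 : Level where
  reps := [[], [3]]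
  edges := [[(0, [0]), (0, [1]), (0, [2]), (1, [])], [(1, [0]), (1, [1]), (1, [2]), (0, [])]]
  phi := 1047039

/-- The levels. -/
def levelsB : List Level := [levelB1, levelB2, levelB3, levelB4]

/-- Orbit words. -/
def orbitB : List (List ℕ) := [[], [1], [3], [1, 0], [1, 3], [3, 2], [1, 0, 3], [1, 3, 2], [1, 0, 3, 2], [1, 0, 3, 2, 1], [1, 0, 3, 2, 1, 2], [1, 0, 3, 2, 1, 2, 3]]

end Cfsg.Agent.OddInvol.F4
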