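/-
`F₄(q)`, `q` odd: the two classes of involutions and the orders of their centralizers.
-/
import Cfsg.Agent.Lib.OddInvol.Classes
import Cfsg.Agent.Lib.OddInvol.DataF4
import Cfsg.Agent.Lib.Chev.CheckF4
import Cfsg.Agent.Lib.Chev.WeylCheck

set_option autoImplicit false
set_option maxRecDepth 100000
set_option synthInstance.maxSize 4000

namespace Cfsg.Agent.OddInvol.F4

open Cfsg.Lie Cfsg.Agent.Chev
open Cfsg.Agent.RootBN (levelsOK levelsPoly evWord)

theorem orth_ok : SimpleOrth chevF4 := by decide +kernel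

theorem paths_ok : ∀ c < 2 ^ chevF4.rank, 0 < c → (∀ i ∈ paths.getD c [], i < chevF4.rank) ∧
    ((paths.getD c []).foldr (actC chevF4) c = codeA ∨ (paths.getD c []).foldr (actC chevF4) c = codeB) := by
  decide +kernel

theorem certA_ok : certA.Valid chevF4 WeylTab.tabsF4 WeylTab.simpsF4 (vOf chevF4 codeA) := by decide +kernel

theorem certB_ok : certB.Valid chevF4 WeylTab.tabsF4 WeylTab.simpsF4 (vOf chevF4 codeB) := by decide +kernel

theorem levelsA_ok : levelsOK certA.E.length certA.tabs certA.S 0 levelsA = true := by decide +kernel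

theorem levelsB_ok : levelsOK certB.E.length certB.tabs certB.S 0 levelsB = true := by decide +kernel

theorem rank_eq : chevF4.rank = 4 := by decide +kernel

theorem levels_len : WeylTab.levelsF4.length = chevF4.rank := by decide +kernel

theorem sizeA : certA.E.length / 2 = 16 := by decide +kernel

theorem sizeB : certB.E.length / 2 = 10 := by decide +kernel

theorem lenA : levelsA.length = certA.S.length := by decide +kernel

theorem lenB : levelsB.length = certB.S.length := by decide +kernel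

theorem orbitA_ok : (∀ w ∈ orbitA, ∀ x ∈ w, x < chevF4.rank) ∧
    (orbitA.map fun w => (List.range chevF4.nroots).map
      fun s => decide (IsEven (vOf chevF4 codeA) (evWord WeylTab.tabsF4 w s))).Nodup ∧
    levelsPoly 1 WeylTab.levelsF4 ≤ levelsPoly 1 levelsA * orbitA.length := by
  decide +kernel

theorem orbitB_ok : (∀ w ∈ orbitB, ∀ x ∈ w, x < chevF4.rank) ∧
    (orbitB.map fun w => (List.range chevF4.nroots).map
      fun s => decide (IsEven (vOf chevF4 codeB) (evWord WeylTab.tabsF4 w s))).Nodup ∧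
    levelsPoly 1 WeylTab.levelsF4 ≤ levelsPoly 1 levelsB * orbitB.length := by
  decide +kernel

theorem polyA (q : ℕ) (hq : 1 ≤ q) : (q - 1) ^ 4 * levelsPoly q levelsA = (q ^ 2 - 1) * (q ^ 4 - 1) * (q ^ 6 - 1) * (q ^ 8 - 1) := by
  rw [levelsPoly_eq q levelsA [[0, 1], [0, 1, 2], [0, 1, 2, 3], [0, 1, 2, 3, 3, 4, 4, 5, 5, 6, 6, 7, 7, 8, 9, 10]] (by decide +kernel)]
  simp only [List.map_cons, List.map_nil, List.sum_cons, List.sum_nil, List.prod_cons, List.prod_nil]
  zify [hq, Nat.one_le_pow 2 q hq, Nat.one_le_pow 4 q hq, Nat.one_le_pow 6 q hq, Nat.one_le_pow 8 q hq]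
  ring

theorem polyB (q : ℕ) (hq : 1 ≤ q) : (q - 1) ^ 4 * levelsPoly q levelsB = (q ^ 2 - 1) * (q ^ 2 - 1) * (q ^ 4 - 1) * (q ^ 6 - 1) := by
  rw [levelsPoly_eq q levelsB [[0, 1], [0, 1, 2], [0, 1, 2, 3, 3, 4, 5, 6], [0, 1]] (by decide +kernel)]
  simp only [List.map_cons, List.map_nil, List.sum_cons, List.sum_nil, List.prod_cons, List.prod_nil]
  zify [hq, Nat.one_le_pow 2 q hq, Nat.one_le_pow 4 q hq, Nat.one_le_pow 6 q hq]
  ring

theorem cardA {F : Type*} [Field F] [Fintype F] (h2 : (2 : F) ≠ 0) :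
    Nat.card (chevF4.group F ⊓ Subgroup.centralizer {tv F (vOf chevF4 codeA)} : Subgroup (GL chevF4.Idx F)) =
      Fintype.card F ^ 16 * ((Fintype.card F ^ 2 - 1) * (Fintype.card F ^ 4 - 1) * (Fintype.card F ^ 6 - 1) * (Fintype.card F ^ 8 - 1)) := by
  rw [card_centralizer F4.good certA_ok BNSetup.facts_chevF4 h2 BNSetup.negTri_chevF4 BNSetup.kerCertF4
    BNSetup.kerCertF4_valid WeylTab.levelsF4 levelsA levels_len WeylTab.levelsOK_F4 lenA levelsA_ok
    orbitA orbitA_ok.1 orbitA_ok.2.1 orbitA_ok.2.2, sizeA, rank_eq, mul_assoc, polyA _ Fintype.card_pos]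

theorem cardB {F : Type*} [Field F] [Fintype F] (h2 : (2 : F) ≠ 0) :
    Nat.card (chevF4.group F ⊓ Subgroup.centralizer {tv F (vOf chevF4 codeB)} : Subgroup (GL chevF4.Idx F)) =
      Fintype.card F ^ 10 * ((Fintype.card F ^ 2 - 1) * (Fintype.card F ^ 2 - 1) * (Fintype.card F ^ 4 - 1) * (Fintype.card F ^ 6 - 1)) := by
  rw [card_centralizer F4.good certB_ok BNSetup.facts_chevF4 h2 BNSetup.negTri_chevF4 BNSetup.kerCertF4
    BNSetup.kerCertF4_valid WeylTab.levelsF4 levelsB levels_len WeylTab.levelsOK_F4 lenB levelsB_ok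
    orbitB orbitB_ok.1 orbitB_ok.2.1 orbitB_ok.2.2, sizeB, rank_eq, mul_assoc, polyB _ Fintype.card_pos]

theorem classes {F : Type*} [Field F] [Fintype F] (hF : Odd (Fintype.card F)) :
    ∃ s t : ↥(chevF4.group F), orderOf s = 2 ∧ orderOf t = 2 ∧ ¬ IsConj s t ∧
      (∀ u : ↥(chevF4.group F), orderOf u = 2 → IsConj u s ∨ IsConj u t) ∧
      Nat.card (Subgroup.centralizer ({s} : Set ↥(chevF4.group F))) = Fintype.card F ^ 16 * (Fintype.card F ^ 2 - 1) * (Fintype.card F ^ 4 - 1) * (Fintype.card F ^ 6 - 1) * (Fintype.card F ^ 8 - 1) ∧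
      Nat.card (Subgroup.centralizer ({t} : Set ↥(chevF4.group F))) = Fintype.card F ^ 10 * (Fintype.card F ^ 2 - 1) ^ 2 * (Fintype.card F ^ 4 - 1) * (Fintype.card F ^ 6 - 1) := by
  classical
  have h2 : (2 : F) ≠ 0 := Ring.two_ne_zero fun h => by
    have := (FiniteField.even_card_iff_char_two (F := F)).1 h
    rw [Nat.odd_iff] at hF; omega
  have hq0 : 0 < Fintype.card F := Fintype.card_pos
  obtain ⟨gs, s1, s2⟩ := tv_invol F4.good BNSetup.facts_chevF4 (c := codeA) h2 BNSetup.kerCertF4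
    BNSetup.kerCertF4_valid ⟨0, by rw [rank_eq]; norm_num⟩ (by decide +kernel)
  obtain ⟨gt, t1, t2⟩ := tv_invol F4.good BNSetup.facts_chevF4 (c := codeB) h2 BNSetup.kerCertF4
    BNSetup.kerCertF4_valid ⟨2, by rw [rank_eq]; norm_num⟩ (by decide +kernel)
  refine ⟨⟨_, gs⟩, ⟨_, gt⟩, orderOf_coe_two gs s1 s2, orderOf_coe_two gt t1 t2, fun hcj => ?_, fun u hu => ?_, ?_, ?_⟩
  · have e := card_centralizer_isConj hcj
    rw [card_centralizer_coe, card_centralizer_coe, cardA h2, cardB h2] at e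
    refine pow_mul_ne (Fintype.one_lt_card) (show 10 < 16 by norm_num) ?_ e.symm
    exact (((coprime_pow_sub_one (by norm_num) hq0).mul_right (coprime_pow_sub_one (by norm_num) hq0)).mul_right (coprime_pow_sub_one (by norm_num) hq0)).mul_right (coprime_pow_sub_one (by norm_num) hq0)
  · have hsq : (u : GL chevF4.Idx F) * u = 1 := by
      have := pow_orderOf_eq_one u
      rw [hu, sq] at this
      exact congrArg Subtype.val this
    have hne : (u : GL chevF4.Idx F) ≠ 1 := fun h => by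
      rw [← Subgroup.orderOf_coe, h, orderOf_one] at hu
      omega
    rcases cj_reps F4.good BNSetup.facts_chevF4 h2 BNSetup.kerCertF4 BNSetup.kerCertF4_valid orth_ok paths
      codeA codeB (fun c hc h0 => paths_ok c hc h0) u.2 hsq hne with h | h
    · exact Or.inl (isConj_of_cj h)
    · exact Or.inr (isConj_of_cj h)
  · rw [card_centralizer_coe, cardA h2]
    ring
  · rw [card_centralizer_coe, cardB h2]
    ring

end Cfsg.Agent.OddInvol.F4
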